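import Groth.Agent.EtFppfCmp.BaseChange
import Mathlib.CategoryTheory.Sites.Abelian

/-!
# Sheaves whose Čech complexes for finite flat covers are exact étale locally
-/

set_option autoImplicit false
set_option backward.isDefEq.respectTransparency.types false

universe u

open CategoryTheory CategoryTheory.Limits AlgebraicGeometry Opposite

noncomputable section

namespace Groth.Agent.EtFppfCmp

open Groth.Agent.EtaleSite

variable {S : Scheme.{u}}

/-- A cocycle in positive degree is étale locally a coboundary. -/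
def Acyc (G : EtFppf.AbF S) : Prop :=
  ∀ {V T : Over S} (w : V ⟶ T) [IsFFCover w] (n : ℕ) (c : Co w G.obj (n + 1)), dC w c = 0 →
    ∀ v : T.left, ∃ (T' : Over S) (g : T' ⟶ T) (t' : T'.left), Etale g.left ∧ g.left t' = v ∧
      ∃ (V' : Over S) (w' : V' ⟶ T') (q : V' ⟶ V) (e : w' ≫ g = q ≫ w) (_ : IsFFCover w'),
        ∃ b : Co w' G.obj n, dC w' b = res e c

/-- The underlying presheaves of an injective sheaf are injective. -/
theorem injective_obj (G : EtFppf.AbF S) [Injective G] : Injective G.obj :=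
  Injective.injective_of_adjoint (sheafificationAdjunction (EtFppf.J S) AddCommGrpCat.{u + 1}) G

theorem acyc_of_injective (G : EtFppf.AbF S) [Injective G] : Acyc G := by
  intro V T w hw n c hc v
  haveI := injective_obj G
  obtain ⟨b, hb⟩ := exists_of_dC_eq_zero c hc
  refine ⟨T, 𝟙 T, v, (inferInstance : Etale (𝟙 T.left)), rfl, V, w, 𝟙 V,
    ((Category.comp_id _).trans (Category.id_comp _).symm), hw, b, ?_⟩
  refine co_ext fun W t => ?_
  rw [ev_res, hb]
  exact congrArg (ev c) (Tp.ext' fun k => (Category.comp_id _).symm)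

variable {X : ShortComplex (EtFppf.AbF S)}

theorem app_g_eq_zero (hX : X.ShortExact) :
    Mono X.f.hom ∧ (X.map (sheafToPresheaf (EtFppf.J S) AddCommGrpCat.{u + 1})).Exact := by
  haveI := hX.mono_f
  exact ⟨inferInstanceAs (Mono ((sheafToPresheaf (EtFppf.J S) AddCommGrpCat.{u + 1}).map X.f)),
    ((sheafToPresheaf (EtFppf.J S) AddCommGrpCat.{u + 1}).preservesFiniteLimits_iff_forall_exact_map_and_mono.1
      inferInstance X hX).1⟩

variable (hX : X.ShortExact)
include hX

theorem injective_app (W : (Over S)ᵒᵖ) : Function.Injective (X.f.hom.app W) := by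
  haveI := (app_g_eq_zero hX).1
  exact (AddCommGrpCat.mono_iff_injective _).1 inferInstance

/-- Cochains killed by `g` come from the kernel. -/
theorem exists_lift_kernel {V T : Over S} {w : V ⟶ T} {n : ℕ} (c : Co w X.X₂.obj n)
    (hc : c ≫ X.g.hom = 0) : ∃ k : Co w X.X₁.obj n, k ≫ X.f.hom = c := by
  obtain ⟨hm, he⟩ := app_g_eq_zero hX
  haveI : Mono (X.map (sheafToPresheaf (EtFppf.J S) AddCommGrpCat.{u + 1})).f := hm
  exact ⟨he.lift c hc, he.lift_f c hc⟩

theorem comp_f_injective {V T : Over S} {w : V ⟶ T} {n : ℕ} {k k' : Co w X.X₁.obj n}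
    (h : k ≫ X.f.hom = k' ≫ X.f.hom) : k = k' := by
  haveI := (app_g_eq_zero hX).1
  exact (cancel_mono X.f.hom).1 h

/-- Sections of a quotient by an acyclic sheaf lift étale locally. -/
theorem liftsEt_of_acyc (hA : Acyc X.X₁) : LiftsEt X.g := by
  intro T s v
  haveI := hX.epi_g
  haveI : Sheaf.IsLocallySurjective X.g :=
    (Sheaf.isLocallySurjective_iff_epi' AddCommGrpCat.{u + 1} _).2 inferInstance
  obtain ⟨T₁, g₁, t₁, V, w, hg₁, ht₁, hw, e, he⟩ :=
    exists_refine _ (Presheaf.imageSieve_mem (EtFppf.J S) X.g.hom (U := op T) s) v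
  haveI := hw
  let c : Co w X.X₂.obj 0 :=
    CechPre.lift (fam w) X.X₂.obj (fun W t => X.X₂.obj.map (Tp.pt (W := W.unop) t 0).op e)
      (fun W W' g t => (map_map_apply X.X₂.obj g.unop (Tp.pt (W := W.unop) t 0) e).symm)
  have hc : ∀ (W : Over S) (t : Tp w W 0), ev c t = X.X₂.obj.map (t.pt 0).op e :=
    fun W t => CechPre.lift_gen (fam w) X.X₂.obj _ _ (op W) t
  have hcg : ∀ (W : Over S) (t : Tp w W 0),
      ev (c ≫ X.g.hom) t = X.X₃.obj.map ((t.pt 0 ≫ w) ≫ g₁).op s := fun W t => by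
    rw [ev_comp, hc]
    refine (NatTrans.naturality_apply X.g.hom (t.pt 0).op e).trans ?_
    rw [he, map_map_apply, Category.assoc]
  have hd : dC w c ≫ X.g.hom = 0 := by
    rw [← dC_comp]
    refine co_ext fun W t => ?_
    rw [ev_dC, ev_zero]
    simp only [hcg, Fin.sum_univ_succ, Fin.sum_univ_zero, add_zero, Fin.val_zero, pow_zero, one_smul,
      Fin.val_succ, zero_add, pow_one, neg_smul]
    rw [add_neg_eq_zero]
    refine congrArg (fun q : W ⟶ T₁ => X.X₃.obj.map (q ≫ g₁).op s) ?_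
    exact (t.2 _).trans (t.2 _).symm
  obtain ⟨k, hk⟩ := exists_lift_kernel hX (dC w c) hd
  have hdk : dC w k = 0 := comp_f_injective hX (by
    rw [← dC_comp, hk, dC_dC, zero_comp])
  obtain ⟨T₂, g₂, t₂, hg₂, ht₂, V', w', q, e', hw', b, hb⟩ := hA w 0 k hdk t₁
  haveI := hw'
  let c' : Co w' X.X₂.obj 0 := res e' c - b ≫ X.f.hom
  have hc' : dC w' c' = 0 := by
    rw [dC_sub, dC_comp, hb, ← res_comp, hk, res_dC, sub_self]
  obtain ⟨x, hx⟩ := exists_descend X.X₂ c' hc'
  refine ⟨T₂, g₂ ≫ g₁, t₂, ?_, ?_, x, ?_⟩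
  · rw [Over.comp_left]
    exact MorphismProperty.comp_mem @Etale _ _ hg₂ hg₁
  · rw [Over.comp_left, Scheme.Hom.comp_apply, ht₂, ht₁]
  · have hsep := ((isSheaf_iff_isSheaf_of_type _ _).1
      ((Presheaf.isSheaf_iff_isSheaf_forget _ X.X₃.obj (forget AddCommGrpCat.{u + 1})).1
        X.X₃.property)) _ (generate_singleton_mem w')
    rw [← Presieve.isSheafFor_iff_generate] at hsep
    refine hsep.isSeparatedFor.ext fun W f hf => ?_
    obtain ⟨rfl⟩ := hf
    let t₀ : Tp w' V' 0 := mkTp (fun _ => 𝟙 V') fun _ => rfl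
    have h1 : X.X₂.obj.map w'.op x = ev c' t₀ := by
      rw [hx V' t₀]
      exact congrArg (fun q' : V' ⟶ T₂ => X.X₂.obj.map q'.op x) (Category.id_comp w').symm
    change X.X₃.obj.map w'.op (X.g.hom.app (op T₂) x) = X.X₃.obj.map w'.op (X.X₃.obj.map (g₂ ≫ g₁).op s)
    rw [← NatTrans.naturality_apply, h1, map_map_apply, ev_sub, map_sub, ev_comp,
      ← ConcreteCategory.comp_apply (X.f.hom.app _), ← NatTrans.comp_app,
      show X.f.hom ≫ X.g.hom = 0 from congrArg (fun r => r.hom) X.zero]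
    simp only [Limits.zero_app]
    refine (sub_zero _).trans ?_
    rw [ev_res, ← ev_comp, hcg]
    refine congrArg (fun q' : V' ⟶ T => X.X₃.obj.map q'.op s) ?_
    show (((𝟙 V') ≫ q) ≫ w) ≫ g₁ = w' ≫ g₂ ≫ g₁
    rw [Category.id_comp, ← Category.assoc w', e']

/-- The quotient of an injective sheaf by an acyclic sheaf is acyclic. -/
theorem acyc_quotient [Injective X.X₂] (hA : Acyc X.X₁) : Acyc X.X₃ := by
  intro V T w hw n c hc v
  haveI := hw
  haveI := injective_obj X.X₂
  obtain ⟨T₁, g, t₁, hg, ht, e, he⟩ := (liftsEt_of_acyc hX hA).exists_finite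
    (powHom w (n + 1)) (isFinite_powHom w hw.finite (n + 1)) (ev c (powTup w (n + 1))) v
  let w₁ := bcHom g w
  have e₁ : w₁ ≫ g = bcSnd g w ≫ w := bc_condition g w
  have hcompat : ∀ (W : Over S) (t : Tp w₁ W (n + 1)),
      (t.pt 0 ≫ w₁) ≫ g = toPow (resTp e₁ t) ≫ powHom w (n + 1) := fun W t => by
    rw [toPow_hom, Category.assoc, e₁, ← Category.assoc]
    rfl
  let E : Co w₁ X.X₂.obj (n + 1) :=
    CechPre.lift (fam w₁) X.X₂.obj
      (fun W t => X.X₂.obj.map (bcLift (Tp.pt (W := W.unop) t 0 ≫ w₁) (toPow (resTp e₁ t))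
        (hcompat W.unop t)).op e)
      (fun W W' h t => by
        refine Eq.trans ?_ (map_map_apply X.X₂.obj h.unop _ e).symm
        refine congrArg (fun q' : W'.unop ⟶ bcObj g (powHom w (n + 1)) => X.X₂.obj.map q'.op e) ?_
        refine bc_hom_ext ?_ ?_
        · rw [bcLift_hom, Category.assoc, bcLift_hom]
          exact Category.assoc _ _ _
        · rw [bcLift_snd, Category.assoc, bcLift_snd]
          refine Eq.trans ?_ (CechPre.toObj_map (fam w) h.unop _)
          exact congrArg toPow (Tp.ext' fun k => Category.assoc _ _ _))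
  have hE : E ≫ X.g.hom = res e₁ c := by
    refine co_ext fun W t => ?_
    rw [ev_comp, ev_res, show ev E t = _ from CechPre.lift_gen (fam w₁) X.X₂.obj _ _ (op W) t]
    refine (NatTrans.naturality_apply X.g.hom _ e).trans ?_
    rw [he, map_map_apply, bcLift_snd, map_toPow]
  have hd : dC w₁ E ≫ X.g.hom = 0 := by
    rw [← dC_comp, hE, ← res_dC, hc, res_zero]
  obtain ⟨k, hk⟩ := exists_lift_kernel hX (dC w₁ E) hd
  have hdk : dC w₁ k = 0 := comp_f_injective hX (by
    rw [← dC_comp, hk, dC_dC, zero_comp])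
  obtain ⟨T₂, g₂, t₂, hg₂, ht₂, V', w', q, e', hw', b, hb⟩ := hA w₁ (n + 1) k hdk t₁
  have hc' : dC w' (res e' E - b ≫ X.f.hom) = 0 := by
    rw [dC_sub, dC_comp, hb, ← res_comp, hk, res_dC, sub_self]
  obtain ⟨h, hh⟩ := exists_of_dC_eq_zero _ hc'
  have e'' : w' ≫ g₂ ≫ g = (q ≫ bcSnd g w) ≫ w := by
    rw [← Category.assoc, e', Category.assoc, e₁, Category.assoc]
  refine ⟨T₂, g₂ ≫ g, t₂, ?_, ?_, V', w', q ≫ bcSnd g w, e'', hw', h ≫ X.g.hom, ?_⟩
  · rw [Over.comp_left]
    exact MorphismProperty.comp_mem @Etale _ _ hg₂ hg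
  · rw [Over.comp_left, Scheme.Hom.comp_apply, ht₂, ht]
  · rw [dC_comp, hh, Preadditive.sub_comp, Category.assoc,
      show X.f.hom ≫ X.g.hom = 0 from congrArg (fun r => r.hom) X.zero, comp_zero, sub_zero,
      ← res_comp, hE, res_res e₁ e' e'']

end Groth.Agent.EtFppfCmp
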