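import Groth.Agent.EtFppfCmp.PointGlue
import Groth.Agent.EtFppfCmp.Class

/-!
# Inverse images from the small étale site are acyclic for finite flat covers
-/

set_option autoImplicit false
set_option linter.style.haveILetI false
set_option backward.isDefEq.respectTransparency.types false

universe u

open CategoryTheory CategoryTheory.Limits AlgebraicGeometry Opposite

noncomputable section

namespace Groth.Agent.EtFppfCmp

open Groth.Agent.EtaleSite

variable {S : Scheme.{u}}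

section BcSect

variable {V T T' : Over S} {w : V ⟶ T} {g : T' ⟶ T} {P : (Over S)ᵒᵖ ⥤ AddCommGrpCat.{u + 1}}

theorem bcTup_compat {n : ℕ} {W : Over S} (t : Tp (bcHom g w) W n) :
    (t.pt 0 ≫ bcHom g w) ≫ g = toPow (resTp (bc_condition g w) t) ≫ powHom w n := by
  rw [toPow_hom, Category.assoc, bc_condition g w, ← Category.assoc]
  rfl

/-- The point of the base change of the fibre power given by a tuple. -/
def bcTup {n : ℕ} {W : Over S} (t : Tp (bcHom g w) W n) : W ⟶ bcObj g (powHom w n) :=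
  bcLift (t.pt 0 ≫ bcHom g w) (toPow (resTp (bc_condition g w) t)) (bcTup_compat t)

theorem bcTup_map {n : ℕ} {W W' : Over S} (h : W' ⟶ W) (t : Tp (bcHom g w) W n) :
    bcTup (CechPre.tupMap (fam (bcHom g w)) h t) = h ≫ bcTup t := by
  refine bc_hom_ext ?_ ?_
  · rw [bcTup, bcLift_hom, Category.assoc, bcTup, bcLift_hom]
    exact Category.assoc _ _ _
  · rw [bcTup, bcLift_snd, Category.assoc, bcTup, bcLift_snd]
    refine Eq.trans ?_ (CechPre.toObj_map (fam w) h _)
    exact congrArg toPow (Tp.ext' fun k => Category.assoc _ _ _)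

/-- The cochain given by a section on the base change of the fibre power. -/
def ofBc {n : ℕ} (e : P.obj (op (bcObj g (powHom w n)))) : Co (bcHom g w) P n :=
  CechPre.lift (fam (bcHom g w)) P (fun W t => P.map (bcTup (W := W.unop) t).op e)
    (fun W W' h t => by
      rw [bcTup_map, ← map_map_apply]
      rfl)

theorem ev_ofBc {n : ℕ} (e : P.obj (op (bcObj g (powHom w n)))) {W : Over S}
    (t : Tp (bcHom g w) W n) : ev (ofBc e) t = P.map (bcTup t).op e :=
  CechPre.lift_gen (fam (bcHom g w)) P _ _ (op W) t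

end BcSect

/-- The cone of a tuple. -/
def consTp {V T : Over S} {w : V ⟶ T} {W : Over S} (v₀ : W ⟶ V) {n : ℕ} (t : Tp w W n)
    (h : v₀ ≫ w = t.pt 0 ≫ w) : Tp w W (n + 1) :=
  mkTp (Fin.cons v₀ t.pt) fun k => by
    induction k using Fin.cases with
    | zero => rfl
    | succ j =>
      rw [Fin.cons_succ, Fin.cons_zero]
      exact (t.2 j).trans h.symm

/-- `π⁻¹F` is acyclic. -/
theorem acyc_Pf (F : EtCoh.Ab S) : Acyc ((Pf S).obj F) := by
  intro V T w hw n c hc v
  haveI := hw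
  haveI := hw.finite
  haveI := hw.surj
  let Ω := AlgebraicClosure (T.left.residueField v)
  let τ₀ : Spec (CommRingCat.of Ω) ⟶ T.left :=
    Spec.map (CommRingCat.ofHom (algebraMap (T.left.residueField v) Ω)) ≫
      T.left.fromSpecResidueField v
  have hτ₀ : τ₀ (default : Spec (CommRingCat.of Ω)) = v :=
    Scheme.fromSpecResidueField_apply v _
  let ξ : Spec (CommRingCat.of Ω) ⟶ S := τ₀ ≫ T.hom
  let τ : Over.mk ξ ⟶ T := Over.homMk τ₀ rfl
  obtain ⟨z, hz⟩ := w.left.surjective v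
  obtain ⟨v₁, hv₁, -⟩ := exists_point_over w.left τ₀ z (hz.trans hτ₀.symm)
  let v₀ : Over.mk ξ ⟶ V := Over.homMk v₁ (by
    show v₁ ≫ V.hom = τ₀ ≫ T.hom
    rw [← Over.w w, reassoc_of% hv₁])
  have hv₀ : v₀ ≫ w = τ := Over.OverMorphism.ext hv₁
  let P := ((Pf S).obj F).obj
  let tp : ∀ {n : ℕ} (ζ : Over.mk ξ ⟶ pow w n), Tp w (Over.mk ξ) n :=
    fun {n} ζ => CechPre.tupMap (fam w) ζ (powTup w n)
  have htp : ∀ {n : ℕ} (ζ : Over.mk ξ ⟶ pow w n), ζ ≫ powHom w n = τ →
      ∀ k, (tp ζ).pt k ≫ w = τ := fun {n} ζ hζ k => by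
    refine Eq.trans ?_ hζ
    exact (Category.assoc _ _ _).trans (congrArg (ζ ≫ ·) (CechPre.π_hom (fam w) _ k))
  obtain ⟨T₁, g, τ₁, hτ₁, hg, e, he⟩ := exists_section_values (F := F) τ (powHom w n)
    (isFinite_powHom w hw.finite n)
    (fun ζ hζ => ev c (consTp v₀ (tp ζ) (hv₀.trans (htp ζ hζ 0).symm)))
  let w₁ := bcHom g w
  have e₁ : w₁ ≫ g = bcSnd g w ≫ w := bc_condition g w
  let b : Co w₁ P n := ofBc e
  let D : Co w₁ P (n + 1) := res e₁ c - dC w₁ b
  have hzero : ∀ ζ : Over.mk ξ ⟶ pow w₁ (n + 1), ζ ≫ powHom w₁ (n + 1) = τ₁ →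
      P.map ζ.op (ev D (powTup w₁ (n + 1))) = 0 := fun ζ hζ => by
    rw [map_ev]
    let t' : Tp w₁ (Over.mk ξ) (n + 1) := CechPre.tupMap (fam w₁) ζ (powTup w₁ (n + 1))
    have ht' : ∀ k, t'.pt k ≫ w₁ = τ₁ := fun k =>
      (Category.assoc _ _ _).trans ((congrArg (ζ ≫ ·) (CechPre.π_hom (fam w₁) _ k)).trans hζ)
    let t := resTp e₁ t'
    have ht : ∀ k, t.pt k ≫ w = τ := fun k => by
      show (t'.pt k ≫ bcSnd g w) ≫ w = τ
      rw [Category.assoc, ← e₁, ← Category.assoc, ht', hτ₁]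
    have hface : ∀ k : Fin (n + 2), ev b (CechPre.tupFace (fam w₁) k t') =
        ev c (consTp v₀ (CechPre.tupFace (fam w) k t) (hv₀.trans (ht _).symm)) := fun k => by
      rw [ev_ofBc]
      let ζk : Over.mk ξ ⟶ pow w n := toPow (CechPre.tupFace (fam w) k t)
      have hζk : ζk ≫ powHom w n = τ := (toPow_hom _).trans (ht _)
      have h1 : bcTup (CechPre.tupFace (fam w₁) k t') = bcLift τ₁ ζk (hτ₁.trans hζk.symm) := by
        refine bc_hom_ext ?_ ?_
        · rw [bcTup, bcLift_hom, bcLift_hom]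
          exact ht' _
        · rw [bcTup, bcLift_snd, bcLift_snd]
          rfl
      rw [h1]
      refine (he ζk hζk).trans ?_
      refine congrArg (ev c) (Tp.ext' fun j => ?_)
      induction j using Fin.cases with
      | zero => rfl
      | succ i => exact congrArg (fun s : Tp w (Over.mk ξ) n => s.pt i) (tupMap_powTup _)
    show ev D t' = 0
    rw [ev_sub, ev_res, ev_dC]
    simp only [hface]
    have h0 := congrArg (fun c' => ev c' (consTp v₀ t (hv₀.trans (ht 0).symm))) hc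
    simp only [ev_dC, ev_zero] at h0
    rw [Fin.sum_univ_succ, Fin.val_zero, pow_zero, one_smul] at h0
    have hf0 : CechPre.tupFace (fam w) 0 (consTp v₀ t (hv₀.trans (ht 0).symm)) = t :=
      Tp.ext' fun j => by simp [consTp, mkTp, CechPre.tupFace, Tp.pt]
    rw [hf0] at h0
    refine Eq.trans ?_ h0
    rw [sub_eq_add_neg, ← Finset.sum_neg_distrib]
    refine congrArg (ev c t + ·) (Finset.sum_congr rfl fun k _ => ?_)
    rw [Fin.val_succ, pow_succ, mul_neg, mul_one, neg_smul]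
    refine congrArg (fun s => -((-1 : ℤ) ^ (k : ℕ) • ev c s)) (Tp.ext' fun j => ?_)
    induction j using Fin.cases with
    | zero => simp [consTp, mkTp, CechPre.tupFace, Tp.pt, Fin.succ_succAbove_zero]
    | succ i => simp [consTp, mkTp, CechPre.tupFace, Tp.pt, Fin.succ_succAbove_succ]
  have hfin₁ : IsFinite w₁.left := isFinite_bcHom g w hw.finite
  obtain ⟨T₂, g₂, t₂, hg₂, ht₂, hy⟩ := exists_zero_nbhd (F := F) τ₁ (powHom w₁ (n + 1))
    (isFinite_powHom w₁ hfin₁ (n + 1)) (ev D (powTup w₁ (n + 1))) hzero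
  let w₂ := bcHom g₂ w₁
  have e₂ : w₂ ≫ g₂ = bcSnd g₂ w₁ ≫ w₁ := bc_condition g₂ w₁
  have hD : res e₂ D = 0 := co_ext fun W t => by
    rw [ev_res, ev_zero, ← map_toPow]
    have h1 : toPow (resTp e₂ t) = bcTup t ≫ bcSnd g₂ (powHom w₁ (n + 1)) := by
      rw [bcTup, bcLift_snd]
    rw [h1, ← map_map_apply, show P.map (bcSnd g₂ (powHom w₁ (n + 1))).op (ev D (powTup w₁ (n + 1))) = 0 from hy,
      map_zero]
  have e₃ : w₂ ≫ g₂ ≫ g = (bcSnd g₂ w₁ ≫ bcSnd g w) ≫ w := by
    rw [← Category.assoc, e₂, Category.assoc, e₁, Category.assoc]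
  refine ⟨T₂, g₂ ≫ g, t₂, ?_, ?_, bcObj g₂ w₁, w₂, bcSnd g₂ w₁ ≫ bcSnd g w, e₃, inferInstance,
    res e₂ b, ?_⟩
  · rw [Over.comp_left]
    exact MorphismProperty.comp_mem @Etale _ _ hg₂ hg
  · rw [Over.comp_left, Scheme.Hom.comp_apply, ht₂, ← Scheme.Hom.comp_apply, ← Over.comp_left, hτ₁]
    exact hτ₀
  · rw [res_sub, sub_eq_zero, res_res e₁ e₂ e₃] at hD
    rw [← res_dC, hD]

end Groth.Agent.EtFppfCmp
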