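import Groth.Agent.EtFppfCmp.AcyPull
import Groth.Agent.EtaleSite.Flasque

/-!
# Cohomological descent from the fppf site to the small étale site
-/

set_option autoImplicit false
set_option linter.style.haveILetI false
set_option backward.isDefEq.respectTransparency.types false

universe u

open CategoryTheory CategoryTheory.Limits AlgebraicGeometry Opposite

noncomputable section

namespace Groth.Agent.EtFppfCmp

open Groth.Agent.EtaleSite

variable {S : Scheme.{u}}

/-- Restriction to the small étale site turns locally liftable morphisms into epimorphisms. -/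
theorem LiftsEt.epi_aPush [EtFppf.ACont S] {G H : EtFppf.AbF S} {π : G ⟶ H} (hπ : LiftsEt π) :
    Epi ((EtFppf.aPush S).map π) := by
  suffices Sheaf.IsLocallySurjective ((EtFppf.aPush S).map π) from inferInstance
  constructor
  intro U t
  refine mem_topology_of_forall_exists _ fun x => ?_
  obtain ⟨T', g, t', he, ht, e, hπe⟩ := hπ ((EtFppf.a S).obj U) t x
  haveI := he
  haveI : Etale U.hom := U.prop
  haveI : Etale (g.left ≫ U.hom) := MorphismProperty.comp_mem @Etale g.left U.hom he U.prop
  let W : S.Etale := Scheme.Etale.mk (g.left ≫ U.hom)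
  let k : W ⟶ U := MorphismProperty.Over.homMk g.left rfl trivial
  let j : (EtFppf.a S).obj W ⟶ T' := Over.homMk (𝟙 T'.left) (by
    show 𝟙 T'.left ≫ T'.hom = g.left ≫ U.hom
    rw [Category.id_comp]
    exact (Over.w g).symm)
  refine ⟨W, k, t', ⟨G.obj.map j.op e, ?_⟩, ht⟩
  refine (NatTrans.naturality_apply π.hom j.op e).trans ?_
  rw [hπe, map_map_apply]
  exact congrArg (fun q : (EtFppf.a S).obj W ⟶ (EtFppf.a S).obj U => H.obj.map q.op t)
    (Over.OverMorphism.ext (Category.id_comp g.left))

theorem preservesFiniteLimits_aPush [EtFppf.ACont S] : PreservesFiniteLimits (EtFppf.aPush S) :=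
  have : PreservesLimitsOfSize.{0, 0} (EtFppf.aPush S) := (EtFppf.aAdj S).rightAdjoint_preservesLimits
  PreservesLimitsOfSize.preservesFiniteLimits _

/-- An injective presentation. -/
theorem exists_presentation (G : EtFppf.AbF S) :
    ∃ X : ShortComplex (EtFppf.AbF S), X.ShortExact ∧ X.X₁ = G ∧ Injective X.X₂ := by
  refine ⟨ShortComplex.mk (Injective.ι G) (cokernel.π _) (cokernel.condition _), ?_, rfl,
    inferInstanceAs (Injective (Injective.under G))⟩
  exact { exact := ShortComplex.exact_cokernel _, mono_f := inferInstance, epi_g := coequalizer.π_epi }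

/-- A left exact functor turning locally liftable quotient maps into epimorphisms has no higher
derived functors on acyclic sheaves. -/
theorem isZero_rightDerived_of_acyc {D : Type*} [Category D] [Abelian D]
    (R : EtFppf.AbF S ⥤ D) [R.Additive] [PreservesFiniteLimits R]
    (hR : ∀ {G H : EtFppf.AbF S} (π : G ⟶ H), LiftsEt π → Epi (R.map π))
    (q : ℕ) (G : EtFppf.AbF S) (hG : Acyc G) : IsZero ((R.rightDerived (q + 1)).obj G) :=
  Flasque.isZero_rightDerived_of_class R Acyc (fun G hG => by
    obtain ⟨X, hX, rfl, hI⟩ := exists_presentation G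
    exact ⟨X, hX, rfl, hI, acyc_quotient hX hG, hR X.g (liftsEt_of_acyc hX hG)⟩) q G hG

theorem acyc_of_iso {G H : EtFppf.AbF S} (e : G ≅ H) (h : Acyc G) : Acyc H := by
  intro V T w hw n c hc v
  obtain ⟨T', g, t', hg, ht, V', w', q, e', hw', b, hb⟩ := h w n (c ≫ e.inv.hom)
    (by rw [dC_comp, hc, zero_comp]) v
  refine ⟨T', g, t', hg, ht, V', w', q, e', hw', b ≫ e.hom.hom, ?_⟩
  rw [dC_comp, hb, ← res_comp, Category.assoc]
  rw [show e.inv.hom ≫ e.hom.hom = 𝟙 _ from congrArg (fun r => r.hom) e.inv_hom_id, Category.comp_id]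

theorem acyc_aPull [EtFppf.ACont S] (F : EtCoh.Ab S) : Acyc ((EtFppf.aPull S).obj F) :=
  acyc_of_iso ((aPullIso S).app F).symm (acyc_Pf F)

/-- `R^q a_*` vanishes on inverse images. -/
theorem isZero_RaPush [EtFppf.ACont S] (F : EtCoh.Ab S) (q : ℕ) (hq : 0 < q) :
    IsZero ((EtFppf.RaPush S q).obj ((EtFppf.aPull S).obj F)) := by
  obtain ⟨k, rfl⟩ : ∃ k, q = k + 1 := ⟨q - 1, by omega⟩
  haveI := preservesFiniteLimits_aPush (S := S)
  exact isZero_rightDerived_of_acyc (EtFppf.aPush S) (fun π hπ => hπ.epi_aPush) k _ (acyc_aPull F)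

end Groth.Agent.EtFppfCmp
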