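import Groth.Agent.EtFppfCmp.Cochain
import Groth.Agent.EtaleSite.PushIntegral
import Mathlib.CategoryTheory.Sites.EpiMono

/-!
# Base change of finite flat covers and lifting along finite morphisms
-/

set_option autoImplicit false
set_option backward.isDefEq.respectTransparency.types false

universe u

open CategoryTheory CategoryTheory.Limits AlgebraicGeometry Opposite

noncomputable section

namespace Groth.Agent.EtFppfCmp

open Groth.Agent.EtaleSite

variable {S : Scheme.{u}}

/-- Composites in the big site. -/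
theorem map_map_apply (G : (Over S)ᵒᵖ ⥤ AddCommGrpCat.{u + 1}) {A B C : Over S} (a : A ⟶ B)
    (b : B ⟶ C) (x : G.obj (op C)) : G.map a.op (G.map b.op x) = G.map (a ≫ b).op x := by
  rw [op_comp, G.map_comp]
  rfl

variable {T T' V : Over S} (g : T' ⟶ T) (w : V ⟶ T)

/-- The base change of `V`. -/
def bcObj : Over S := Over.mk (pullback.fst g.left w.left ≫ T'.hom)

/-- The projection to the new base. -/
def bcHom : bcObj g w ⟶ T' := Over.homMk (pullback.fst g.left w.left) rfl

/-- The projection to the old cover. -/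
def bcSnd : bcObj g w ⟶ V :=
  Over.homMk (pullback.snd g.left w.left) (by
    show pullback.snd g.left w.left ≫ V.hom = pullback.fst g.left w.left ≫ T'.hom
    rw [← Over.w w, ← pullback.condition_assoc, Over.w g])

theorem bc_condition : bcHom g w ≫ g = bcSnd g w ≫ w :=
  Over.OverMorphism.ext pullback.condition

variable {g w}

/-- Morphisms to the base change. -/
def bcLift {W : Over S} (a : W ⟶ T') (b : W ⟶ V) (e : a ≫ g = b ≫ w) : W ⟶ bcObj g w :=
  Over.homMk (pullback.lift a.left b.left (congrArg CommaMorphism.left e)) (by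
    show pullback.lift _ _ _ ≫ pullback.fst g.left w.left ≫ T'.hom = W.hom
    rw [pullback.lift_fst_assoc, Over.w a])

@[simp] theorem bcLift_hom {W : Over S} (a : W ⟶ T') (b : W ⟶ V) (e : a ≫ g = b ≫ w) :
    bcLift a b e ≫ bcHom g w = a :=
  Over.OverMorphism.ext (pullback.lift_fst _ _ _)

@[simp] theorem bcLift_snd {W : Over S} (a : W ⟶ T') (b : W ⟶ V) (e : a ≫ g = b ≫ w) :
    bcLift a b e ≫ bcSnd g w = b :=
  Over.OverMorphism.ext (pullback.lift_snd _ _ _)

theorem bc_hom_ext {W : Over S} {a b : W ⟶ bcObj g w} (h₁ : a ≫ bcHom g w = b ≫ bcHom g w)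
    (h₂ : a ≫ bcSnd g w = b ≫ bcSnd g w) : a = b :=
  Over.OverMorphism.ext (pullback.hom_ext (congrArg CommaMorphism.left h₁)
    (congrArg CommaMorphism.left h₂))

variable (g w)

instance isFFCover_bcHom [hw : IsFFCover w] : IsFFCover (bcHom g w) where
  finite := MorphismProperty.pullback_fst (P := @IsFinite) g.left w.left hw.finite
  flat := MorphismProperty.pullback_fst (P := @Flat) g.left w.left hw.flat
  lfp := MorphismProperty.pullback_fst (P := @LocallyOfFinitePresentation) g.left w.left hw.lfp
  surj := MorphismProperty.pullback_fst (P := @Surjective) g.left w.left hw.surj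

theorem isFinite_bcHom (hw : IsFinite w.left) : IsFinite (bcHom g w).left :=
  MorphismProperty.pullback_fst (P := @IsFinite) g.left w.left hw

/-- The fibre powers of a finite morphism are finite. -/
theorem isFinite_powHom (hw : IsFinite w.left) : ∀ n : ℕ, IsFinite (powHom w n).left
  | 0 => by
    let a : pow w 0 ⟶ V := (powTup w 0).pt 0
    let b : V ⟶ pow w 0 := toPow (mkTp (fun _ => 𝟙 V) fun _ => rfl)
    have hba : b ≫ a = 𝟙 V := CechPre.toObj_π (fam w) _ 0
    have hab : a ≫ b = 𝟙 _ := by
      refine CechPre.hom_ext (fam w) fun k => ?_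
      obtain rfl := Subsingleton.elim (α := Fin 1) k 0
      exact (Category.assoc _ _ _).trans ((congrArg (a ≫ ·) hba).trans
        ((Category.comp_id _).trans (Category.id_comp _).symm))
    have he : powHom w 0 = a ≫ w := (CechPre.π_hom (fam w) _ 0).symm
    have : IsIso a := ⟨⟨b, hab, hba⟩⟩
    have : IsIso a.left := inferInstanceAs (IsIso ((Over.forget S).map a))
    rw [he, Over.comp_left]
    infer_instance
  | n + 1 => by
    have ih := isFinite_powHom hw n
    let Q := bcObj (powHom w n) w
    let f : Q ⟶ pow w (n + 1) := toPow (mkTp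
      (Fin.cons (bcSnd (powHom w n) w) fun k => bcHom (powHom w n) w ≫ (powTup w n).pt k) (by
        intro k
        induction k using Fin.cases with
        | zero => rfl
        | succ j =>
          simp only [Fin.cons_succ, Fin.cons_zero, Category.assoc]
          exact (congrArg (bcHom (powHom w n) w ≫ ·) (CechPre.π_hom (fam w) _ j)).trans
            (bc_condition (powHom w n) w)))
    let r : pow w (n + 1) ⟶ pow w n := toPow (CechPre.tupFace (fam w) 0 (powTup w (n + 1)))
    let i : pow w (n + 1) ⟶ Q := bcLift r ((powTup w (n + 1)).pt 0) (by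
      rw [toPow_hom]
      exact (powTup w (n + 1)).2 _)
    have hfi : i ≫ f = 𝟙 _ := by
      refine CechPre.hom_ext (fam w) fun k => ?_
      refine (Category.assoc _ _ _).trans ((congrArg (i ≫ ·) (CechPre.toObj_π (fam w) _ k)).trans ?_)
      rw [Category.id_comp]
      induction k using Fin.cases with
      | zero => exact bcLift_snd _ _ _
      | succ j =>
        show i ≫ Fin.cons (α := fun _ => Q ⟶ V) _ _ j.succ = _
        rw [Fin.cons_succ, ← Category.assoc, bcLift_hom]
        refine (CechPre.toObj_π (fam w) _ j).trans ?_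
        simp [CechPre.tupFace, CechPre.taut]
    have hif : f ≫ i = 𝟙 _ := by
      refine bc_hom_ext ?_ ?_
      · rw [Category.assoc, bcLift_hom, Category.id_comp]
        refine CechPre.hom_ext (fam w) fun k => ?_
        refine (Category.assoc _ _ _).trans ((congrArg (f ≫ ·) (CechPre.toObj_π (fam w) _ k)).trans ?_)
        refine (congrArg (f ≫ ·) (show _ = (powTup w (n + 1)).pt k.succ by
          simp [CechPre.tupFace, Tp.pt])).trans ?_
        exact (CechPre.toObj_π (fam w) _ k.succ).trans
          (Fin.cons_succ (α := fun _ => Q ⟶ V) (bcSnd (powHom w n) w) (fun j => bcHom (powHom w n) w ≫ (powTup w n).pt j) k)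
      · rw [Category.assoc, bcLift_snd, Category.id_comp]
        exact (CechPre.toObj_π (fam w) _ 0).trans
          (Fin.cons_zero (α := fun _ => Q ⟶ V) (bcSnd (powHom w n) w) (fun j => bcHom (powHom w n) w ≫ (powTup w n).pt j))
    have : IsIso i := ⟨⟨f, hfi, hif⟩⟩
    have : IsIso i.left := inferInstanceAs (IsIso ((Over.forget S).map i))
    have he : powHom w (n + 1) = i ≫ bcHom (powHom w n) w ≫ powHom w n := by
      rw [← Category.assoc, bcLift_hom, toPow_hom]
      refine (CechPre.π_hom (fam w) _ ((0 : Fin (n + 2)).succAbove 0)).symm.trans ?_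
      rfl
    have := isFinite_bcHom (powHom w n) w hw
    rw [he, Over.comp_left, Over.comp_left]
    infer_instance

/-- The restriction of an fppf sheaf to the small étale site of a member of the big site. -/
abbrev resAt (T : Over S) : EtFppf.AbF S ⥤ EtCoh.Ab T.left :=
  BigSite.resEtAlong Scheme.fppfPrecoverage T.hom

/-- Sections lift locally for the étale topology. -/
def LiftsEt {G H : EtFppf.AbF S} (π : G ⟶ H) : Prop :=
  ∀ (T : Over S) (s : H.obj.obj (op T)) (v : T.left), ∃ (T' : Over S) (g : T' ⟶ T) (t' : T'.left),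
    Etale g.left ∧ g.left t' = v ∧ ∃ e : G.obj.obj (op T'), π.hom.app (op T') e = H.obj.map g.op s

theorem LiftsEt.epi {G H : EtFppf.AbF S} {π : G ⟶ H} (hπ : LiftsEt π) (T : Over S) :
    Epi ((resAt T).map π) := by
  suffices Sheaf.IsLocallySurjective ((resAt T).map π) from inferInstance
  constructor
  intro U t
  refine mem_topology_of_forall_exists _ fun x => ?_
  let UT : Over S := Over.mk (U.hom ≫ T.hom)
  obtain ⟨T', g, t', he, ht, e, hπe⟩ := hπ UT t x
  haveI := he
  haveI : Etale U.hom := U.prop
  let W : T.left.Etale := Scheme.Etale.mk (g.left ≫ U.hom)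
  let k : W ⟶ U := MorphismProperty.Over.homMk g.left rfl trivial
  let j : Over.mk (W.hom ≫ T.hom) ⟶ T' := Over.homMk (𝟙 T'.left) (by
    show 𝟙 T'.left ≫ T'.hom = (g.left ≫ U.hom) ≫ T.hom
    rw [Category.id_comp, Category.assoc]
    exact (Over.w g).symm)
  refine ⟨W, k, t', ⟨G.obj.map j.op e, ?_⟩, ht⟩
  refine (NatTrans.naturality_apply π.hom j.op e).trans ?_
  rw [hπe, map_map_apply]
  exact congrArg (fun q : Over.mk (W.hom ≫ T.hom) ⟶ UT => H.obj.map q.op t)
    (Over.OverMorphism.ext (Category.id_comp g.left))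

/-- Lifting along a finite morphism. -/
theorem LiftsEt.exists_finite {G H : EtFppf.AbF S} {π : G ⟶ H} (hπ : LiftsEt π) {P T : Over S}
    (h : P ⟶ T) (hh : IsFinite h.left) (y : H.obj.obj (op P)) (v : T.left) :
    ∃ (T' : Over S) (g : T' ⟶ T) (t' : T'.left), Etale g.left ∧ g.left t' = v ∧
      ∃ e : G.obj.obj (op (bcObj g h)), π.hom.app _ e = H.obj.map (bcSnd g h).op y := by
  haveI := hh
  haveI := hπ.epi P
  haveI : Epi ((EtCoh.push h.left).map ((resAt P).map π)) := epi_push_map h.left _
  have hls : Sheaf.IsLocallySurjective ((EtCoh.push h.left).map ((resAt P).map π)) :=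
    (Sheaf.isLocallySurjective_iff_epi' AddCommGrpCat.{u + 1} _).2 inferInstance
  let j₀ : Over.mk (((EtCoh.bc h.left).obj (EtCoh.top T.left)).hom ≫ P.hom) ⟶ P :=
    Over.homMk ((EtCoh.bc h.left).obj (EtCoh.top T.left)).hom rfl
  let t := H.obj.map j₀.op y
  obtain ⟨V, k, z, ⟨e, hek⟩, hz⟩ := exists_of_mem_topology
    (Presheaf.imageSieve_mem T.left.smallEtaleTopology
      ((EtCoh.push h.left).map ((resAt P).map π)).hom (U := op (EtCoh.top T.left)) t) v
  haveI : Etale V.hom := V.prop
  let T' : Over S := Over.mk (V.hom ≫ T.hom)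
  let g : T' ⟶ T := Over.homMk V.hom rfl
  refine ⟨T', g, z, V.prop, ?_, ?_⟩
  · show V.hom z = v
    rw [← hz, show k.left = V.hom from (Category.comp_id _).symm.trans (MorphismProperty.Over.w k)]
    rfl
  · let j : bcObj g h ⟶ Over.mk (((EtCoh.bc h.left).obj V).hom ≫ P.hom) :=
      Over.homMk (𝟙 (pullback V.hom h.left)) (by
        show 𝟙 _ ≫ pullback.snd V.hom h.left ≫ P.hom = pullback.fst V.hom h.left ≫ V.hom ≫ T.hom
        rw [Category.id_comp, pullback.condition_assoc, Over.w h])
    refine ⟨G.obj.map j.op e, ?_⟩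
    refine (NatTrans.naturality_apply π.hom j.op e).trans ?_
    refine (congrArg (H.obj.map j.op) hek).trans ?_
    refine (congrArg (H.obj.map j.op) (map_map_apply H.obj _ j₀ y)).trans ?_
    rw [map_map_apply]
    refine congrArg (fun q : bcObj g h ⟶ P => H.obj.map q.op y) (Over.OverMorphism.ext ?_)
    show 𝟙 _ ≫ ((EtCoh.bc h.left).map k).left ≫ pullback.snd (EtCoh.top T.left).hom h.left =
      pullback.snd V.hom h.left
    rw [Category.id_comp]
    exact MorphismProperty.Over.w ((EtCoh.bc h.left).map k)

end Groth.Agent.EtFppfCmp
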