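import Mathlib

/-!
# The alternating face differential on functions of tuples squares to zero
-/

set_option autoImplicit false

universe u v

namespace Groth.Agent.EtFppfCmp

variable {α : Type u} {M : Type v} [AddCommGroup M]

/-- The alternating sum over the faces of a tuple. -/
def dF {n : ℕ} (f : (Fin (n + 1) → α) → M) (t : Fin (n + 2) → α) : M :=
  ∑ k : Fin (n + 2), (-1 : ℤ) ^ (k : ℕ) • f (t ∘ k.succAbove)

theorem dF_sub {n : ℕ} (f g : (Fin (n + 1) → α) → M) (t : Fin (n + 2) → α) :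
    dF (fun t' => f t' - g t') t = dF f t - dF g t := by
  simp [dF, smul_sub, Finset.sum_sub_distrib]

theorem cons_comp_succAbove_zero {n : ℕ} (s : α) (t : Fin (n + 1) → α) :
    (Fin.cons s t : Fin (n + 2) → α) ∘ (0 : Fin (n + 2)).succAbove = t := by
  funext j; simp

theorem cons_comp_succAbove_succ {n : ℕ} (s : α) (t : Fin (n + 2) → α) (k : Fin (n + 2)) :
    (Fin.cons s t : Fin (n + 3) → α) ∘ k.succ.succAbove = Fin.cons s (t ∘ k.succAbove) := by
  funext j
  induction j using Fin.cases with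
  | zero => simp
  | succ i => simp

theorem dF_cons {n : ℕ} (f : (Fin (n + 2) → α) → M) (s : α) (t : Fin (n + 2) → α) :
    dF f (Fin.cons s t) = f t - dF (fun t' => f (Fin.cons s t')) t := by
  rw [dF, Fin.sum_univ_succ, cons_comp_succAbove_zero, Fin.val_zero, pow_zero, one_smul,
    sub_eq_add_neg, dF, ← Finset.sum_neg_distrib]
  refine congrArg (f t + ·) (Finset.sum_congr rfl fun k _ => ?_)
  rw [cons_comp_succAbove_succ, Fin.val_succ, pow_succ, mul_neg, mul_one, neg_smul]

theorem dF_dF_zero (f : (Fin 1 → α) → M) (t : Fin 3 → α) : dF (dF f) t = 0 := by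
  have hc : ∀ h : Fin 1 → α, h = fun _ => h 0 := fun h => funext fun i => congrArg h (Subsingleton.elim i 0)
  simp only [dF, Fin.sum_univ_succ, Fin.sum_univ_zero, add_zero, Fin.val_zero, pow_zero, one_smul,
    Fin.val_succ]
  rw [hc ((t ∘ (0 : Fin 3).succAbove) ∘ (0 : Fin 2).succAbove),
    hc ((t ∘ (0 : Fin 3).succAbove) ∘ (Fin.succ (0 : Fin 1)).succAbove),
    hc ((t ∘ (Fin.succ (0 : Fin 2)).succAbove) ∘ (0 : Fin 2).succAbove),
    hc ((t ∘ (Fin.succ (0 : Fin 2)).succAbove) ∘ (Fin.succ (0 : Fin 1)).succAbove),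
    hc ((t ∘ (Fin.succ (Fin.succ (0 : Fin 1))).succAbove) ∘ (0 : Fin 2).succAbove),
    hc ((t ∘ (Fin.succ (Fin.succ (0 : Fin 1))).succAbove) ∘ (Fin.succ (0 : Fin 1)).succAbove)]
  simp [Function.comp, show Fin.succAbove (2 : Fin 3) (1 : Fin 2) = 1 from by decide]
  abel

/-- The differential squares to zero. -/
theorem dF_dF : ∀ {n : ℕ} (f : (Fin (n + 1) → α) → M) (t : Fin (n + 3) → α), dF (dF f) t = 0
  | 0, f, t => dF_dF_zero f t
  | n + 1, f, t => by
    conv_lhs => rw [← Fin.cons_self_tail t]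
    rw [dF_cons, show (fun t' => dF f (Fin.cons (t 0) t')) =
      fun t' => f t' - dF (fun t'' => f (Fin.cons (t 0) t'')) t' from
        funext fun t' => dF_cons f (t 0) t', dF_sub, dF_dF, sub_zero, sub_self]

end Groth.Agent.EtFppfCmp
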