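import Mathlib
import Groth.Agent.S1375
import Groth.Agent.S1353
import Groth.Prelude.Def_BigSite
import Groth.Agent.BigBC.Point

/-!
# Fppf coverings near a point: étale neighbourhood followed by a finite flat cover
-/

set_option autoImplicit false
set_option backward.isDefEq.respectTransparency.types false

universe u

open CategoryTheory CategoryTheory.Limits AlgebraicGeometry Opposite

namespace Groth.Agent.EtFppfCmp

set_option backward.isDefEq.respectTransparency.types false in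
open AlgebraicGeometry CategoryTheory Limits in
/-- Near a point in the image of an fppf morphism there are an elementary etale neighbourhood and a
finite flat cover of it factoring through the morphism. -/
theorem exists_nbhd_fp {Y X : Scheme.{u}} (w : Y ⟶ X) [Flat w] [LocallyOfFinitePresentation w]
    (y : Y) :
    ∃ (U V : Scheme.{u}) (g : U ⟶ X) (v : V ⟶ U), Etale g ∧
      (∃ u : U, g.base u = w y ∧ IsIso (g.residueFieldMap u)) ∧
      (IsFinite v ∧ Flat v ∧ Surjective v ∧ LocallyOfFinitePresentation v) ∧ ∃ r : V ⟶ Y, r ≫ w = v ≫ g := by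
  classical
  let O : X.Opens := ⟨Set.range w, w.isOpenMap.isOpen_range⟩
  have hO : w ⁻¹ᵁ O = ⊤ := TopologicalSpace.Opens.ext (Set.eq_univ_of_forall fun z => ⟨z, rfl⟩)
  let w' := w ∣_ O
  haveI : Surjective w' := ⟨fun o => by
    obtain ⟨z, hz⟩ := (show o.1 ∈ Set.range w from o.2)
    refine ⟨⟨z, show z ∈ w ⁻¹ᵁ O from ⟨z, rfl⟩⟩, Subtype.ext ?_⟩
    exact (morphismRestrict_base_coe w O _).trans hz⟩
  obtain ⟨U₀, hU₀, hy, -⟩ := exists_isAffineOpen_mem_and_subset
    (show (⟨w y, y, rfl⟩ : O.toScheme) ∈ (⊤ : O.toScheme.Opens) from trivial)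
  obtain ⟨T, π, r, -, _, _, _, _, hr⟩ := Groth.Agent.S1375.exists_affine_refinement w' U₀ hU₀
  let f : T ⟶ X := π ≫ U₀.ι ≫ O.ι
  obtain ⟨t, ht⟩ := π.surjective ⟨_, hy⟩
  have hft : f t = w y := by
    show (π ≫ U₀.ι ≫ O.ι) t = _
    rw [Scheme.Hom.comp_apply, ht]
    rfl
  obtain ⟨U, g, u, hn, W, z, hzW, hfin, hzu, -, -, -⟩ :=
    Groth.Agent.S1353.result f t (f.quasiFiniteAt t)
  haveI := hn.etale
  haveI := hfin
  let v₀ := W.ι ≫ pullback.snd f g
  haveI : Flat v₀ := inferInstance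
  haveI : LocallyOfFinitePresentation v₀ := inferInstance
  let U' : U.Opens := ⟨Set.range v₀, v₀.isOpenMap.isOpen_range⟩
  let v := v₀ ∣_ U'
  haveI : Surjective v := ⟨fun a => by
    obtain ⟨x, hx⟩ := (show a.1 ∈ Set.range v₀ from a.2)
    exact ⟨⟨x, show v₀ x ∈ U' from ⟨x, rfl⟩⟩, Subtype.ext ((morphismRestrict_base_coe v₀ U' _).trans hx)⟩⟩
  haveI : IsFinite v := MorphismProperty.of_isPullback (isPullback_morphismRestrict v₀ U').flip ‹_›
  haveI : Flat v := MorphismProperty.of_isPullback (isPullback_morphismRestrict v₀ U').flip ‹_›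
  haveI : LocallyOfFinitePresentation v := MorphismProperty.of_isPullback (isPullback_morphismRestrict v₀ U').flip ‹_›
  have hu : u ∈ U' := ⟨⟨z, hzW⟩, hzu⟩
  refine ⟨U'.toScheme, _, U'.ι ≫ g, v, inferInstance, ⟨⟨u, hu⟩, ?_, ?_⟩,
    ⟨inferInstance, inferInstance, inferInstance, inferInstance⟩,
    (v₀ ⁻¹ᵁ U').ι ≫ W.ι ≫ pullback.fst f g ≫ r ≫ (w ⁻¹ᵁ O).ι, ?_⟩
  · show g u = w y
    rw [show g u = f t from hn.base_eq, hft]
  · rw [Scheme.residueFieldMap_comp]
    have h1 : IsIso (g.residueFieldMap (U'.ι (⟨u, hu⟩ : U'.toScheme))) :=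
      (ConcreteCategory.isIso_iff_bijective _).mpr hn.residue_bijective
    haveI : IsIso (U'.ι.residueFieldMap (⟨u, hu⟩ : U'.toScheme)) := inferInstance
    exact @IsIso.comp_isIso _ _ _ _ _ _ _ h1 this
  · simp only [Category.assoc]
    rw [← morphismRestrict_ι, reassoc_of% hr, morphismRestrict_ι_assoc]
    show (v₀ ⁻¹ᵁ U').ι ≫ W.ι ≫ pullback.fst f g ≫ f = _
    rw [pullback.condition]
    simp only [v₀, Category.assoc]

variable {S : Scheme.{u}}

instance : MorphismProperty.IsMultiplicative (@Flat.{u} ⊓ @LocallyOfFinitePresentation.{u}) where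
  id_mem X := ⟨inferInstance, inferInstance⟩
  comp_mem f g hf hg := ⟨MorphismProperty.comp_mem @Flat f g hf.1 hg.1,
    MorphismProperty.comp_mem @LocallyOfFinitePresentation f g hf.2 hg.2⟩

/-- Finite flat covers of the objects of the big site. -/
class IsFFCover {V T : Over S} (w : V ⟶ T) : Prop where
  finite : IsFinite w.left
  flat : Flat w.left
  lfp : LocallyOfFinitePresentation w.left
  surj : Surjective w.left

/-- A finite flat cover generates a covering sieve. -/
theorem generate_singleton_mem {V T : Over S} (w : V ⟶ T) [hw : IsFFCover w] :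
    Sieve.generate (Presieve.singleton w) ∈ EtFppf.J S T := by
  refine (GrothendieckTopology.mem_over_iff _ _).2 ?_
  haveI := hw.surj
  let 𝒰 : Scheme.Cover.{u} (Scheme.precoverage (@Flat ⊓ @LocallyOfFinitePresentation)) T.left :=
    Scheme.Cover.mkOfCovers PUnit.{u + 1} (fun _ => V.left) (fun _ => w.left)
      (fun x => ⟨⟨⟩, (w.left.surjective x).choose, (w.left.surjective x).choose_spec⟩)
      (fun _ => ⟨hw.flat, hw.lfp⟩)
  refine Scheme.mem_grothendieckTopology_iff.2 ⟨𝒰, ?_⟩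
  rintro Z k ⟨_⟩
  refine (Sieve.overEquiv_iff _ _).2 ?_
  refine ⟨V, Over.homMk (𝟙 V.left) ((Category.id_comp _).trans (Over.w w).symm), w,
    Presieve.singleton_self _, ?_⟩
  ext
  exact Category.id_comp w.left

/-- Near every point, a covering sieve contains an étale neighbourhood followed by a finite flat
cover. -/
theorem exists_refine {T : Over S} (R : Sieve T) (hR : R ∈ EtFppf.J S T) (v : T.left) :
    ∃ (T' : Over S) (g : T' ⟶ T) (t' : T'.left) (V : Over S) (w : V ⟶ T'),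
      Etale g.left ∧ g.left t' = v ∧ IsFFCover w ∧ R (w ≫ g) := by
  have h : Sieve.overEquiv T R ∈ Scheme.grothendieckTopology (@Flat ⊓ @LocallyOfFinitePresentation) T.left :=
    (GrothendieckTopology.mem_over_iff _ _).1 hR
  obtain ⟨𝒰, hle⟩ := Scheme.exists_cover_of_mem_grothendieckTopology h
  obtain ⟨i, y, hy⟩ := 𝒰.exists_eq v
  obtain ⟨hfl, hfp⟩ := 𝒰.map_prop i
  obtain ⟨U, V, g, w, hg, ⟨u, hu, -⟩, ⟨h1, h2, h3, h4⟩, r, hr⟩ := exists_nbhd_fp (𝒰.f i) y
  refine ⟨Over.mk (g ≫ T.hom), Over.homMk g, u, Over.mk (w ≫ g ≫ T.hom), Over.homMk w, hg,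
    hu.trans hy, ⟨h1, h2, h4, h3⟩, ?_⟩
  have h0 := R.downward_closed ((Sieve.overEquiv_iff R (𝒰.f i)).1 (hle _ _ ⟨i⟩))
    (Over.homMk r (by simp [reassoc_of% hr]) : Over.mk (w ≫ g ≫ T.hom) ⟶ Over.mk (𝒰.f i ≫ T.hom))
  convert h0 using 1
  ext
  simp [hr]

end Groth.Agent.EtFppfCmp
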