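import Groth.Agent.EtaleSite.CechPre
import Groth.Agent.EtFppfCmp.Combi
import Groth.Agent.EtFppfCmp.Refine
import Groth.Prelude.Def_BigSite

/-!
# Čech cochains of a single morphism on the big site
-/

set_option autoImplicit false
set_option backward.isDefEq.respectTransparency.types false

universe u

open CategoryTheory CategoryTheory.Limits AlgebraicGeometry Opposite

noncomputable section

namespace Groth.Agent.EtFppfCmp

open Groth.Agent.EtaleSite

variable {S : Scheme.{u}} {V T : Over S} (w : V ⟶ T)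

/-- The family with one member. -/
abbrev fam : PUnit.{u + 2} → Over T := fun _ => Over.mk w

/-- Tuples of points of `V` with the same image in `T`. -/
abbrev Tp (W : Over S) (n : ℕ) : Type (u + 1) := CechPre.Tup (fam w) W n

/-- Cochains. -/
abbrev Co (P : (Over S)ᵒᵖ ⥤ AddCommGrpCat.{u + 1}) (n : ℕ) : Type (u + 1) :=
  CechPre.free (fam w) n ⟶ P

variable {w}

/-- A tuple. -/
def mkTp {W : Over S} {n : ℕ} (t : Fin (n + 1) → (W ⟶ V)) (h : ∀ k, t k ≫ w = t 0 ≫ w) :
    Tp w W n :=
  ⟨fun k => ⟨⟨⟩, t k⟩, h⟩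

/-- The point of a tuple. -/
abbrev Tp.pt {W : Over S} {n : ℕ} (t : Tp w W n) (k : Fin (n + 1)) : W ⟶ V := (t.1 k).2

theorem Tp.ext' {W : Over S} {n : ℕ} {t t' : Tp w W n} (h : ∀ k, t.pt k = t'.pt k) : t = t' :=
  Subtype.ext (funext fun k => Sigma.ext rfl (heq_of_eq (h k)))

/-- The value of a cochain on a tuple. -/
def ev {P : (Over S)ᵒᵖ ⥤ AddCommGrpCat.{u + 1}} {n : ℕ} (c : Co w P n) {W : Over S} (t : Tp w W n) :
    P.obj (op W) :=
  c.app (op W) (CechPre.gen (W := op W) (fam w) t)

variable {P Q : (Over S)ᵒᵖ ⥤ AddCommGrpCat.{u + 1}}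

theorem co_ext {n : ℕ} {c c' : Co w P n} (h : ∀ (W : Over S) (t : Tp w W n), ev c t = ev c' t) :
    c = c' := by
  ext W : 2
  exact CechPre.free_ext (fam w) fun t => h W.unop t

theorem map_ev {n : ℕ} (c : Co w P n) {W W' : Over S} (g : W' ⟶ W) (t : Tp w W n) :
    P.map g.op (ev c t) = ev c (CechPre.tupMap (fam w) g t) := by
  refine (NatTrans.naturality_apply c g.op _).symm.trans ?_
  exact congrArg _ (CechPre.free_map_gen (fam w) (W := op W) (W' := op W') g.op t)

theorem ev_add {n : ℕ} (c c' : Co w P n) {W : Over S} (t : Tp w W n) :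
    ev (c + c') t = ev c t + ev c' t := by
  simp [ev, NatTrans.app_add]

theorem ev_sub {n : ℕ} (c c' : Co w P n) {W : Over S} (t : Tp w W n) :
    ev (c - c') t = ev c t - ev c' t := by
  simp [ev, NatTrans.app_sub]

theorem ev_zero {n : ℕ} {W : Over S} (t : Tp w W n) : ev (0 : Co w P n) t = 0 := by
  simp [ev]

theorem ev_comp {n : ℕ} (c : Co w P n) (φ : P ⟶ Q) {W : Over S} (t : Tp w W n) :
    ev (c ≫ φ) t = φ.app (op W) (ev c t) := rfl

variable (w)

/-- The differential. -/
def dC {n : ℕ} (c : Co w P n) : Co w P (n + 1) := CechPre.dFree (fam w) n ≫ c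

variable {w}

theorem ev_dC {n : ℕ} (c : Co w P n) {W : Over S} (t : Tp w W (n + 1)) :
    ev (dC w c) t = ∑ k : Fin (n + 2), (-1 : ℤ) ^ (k : ℕ) • ev c (CechPre.tupFace (fam w) k t) := by
  simp only [ev, dC, NatTrans.comp_app, ConcreteCategory.comp_apply, CechPre.dFree_gen, map_sum,
    map_zsmul]

theorem dC_comp {n : ℕ} (c : Co w P n) (φ : P ⟶ Q) : dC w (c ≫ φ) = dC w c ≫ φ :=
  (Category.assoc _ _ _).symm

theorem dC_sub {n : ℕ} (c c' : Co w P n) : dC w (c - c') = dC w c - dC w c' :=
  Preadditive.comp_sub _ _ _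

/-- The differential squares to zero. -/
theorem dC_dC {n : ℕ} (c : Co w P n) : dC w (dC w c) = 0 := by
  classical
  refine co_ext fun W t => ?_
  let f : (Fin (n + 1) → CechPre.Pt (fam w) W) → P.obj (op W) := fun t' =>
    if h : ∀ k, CechPre.base (fam w) (t' k) = CechPre.base (fam w) (t' 0) then ev c ⟨t', h⟩ else 0
  have hf : ∀ t' : Tp w W n, f t'.1 = ev c t' := fun t' => dif_pos t'.2
  rw [ev_zero, ← dF_dF f t.1]
  simp only [ev_dC, dF]
  refine Finset.sum_congr rfl fun k _ => congrArg _ (Finset.sum_congr rfl fun j _ => congrArg _ ?_)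
  exact (hf _).symm

/-- Cochains with values in an injective presheaf have no cohomology. -/
theorem exists_of_dC_eq_zero [Injective P] {n : ℕ} (c : Co w P (n + 1)) (hc : dC w c = 0) :
    ∃ b : Co w P n, dC w b = c := by
  have hk : kernel.ι (CechPre.dFree (fam w) n) ≫ c = 0 := by
    ext W x
    have hx : (CechPre.dFree (fam w) n).app W
        ((kernel.ι (CechPre.dFree (fam w) n)).app W x) = 0 := by
      rw [← ConcreteCategory.comp_apply, ← NatTrans.comp_app, kernel.condition]
      simp
    have h := congrArg (fun q => q.hom ((kernel.ι (CechPre.dFree (fam w) n)).app W x))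
      (CechPre.homotopy (fam w) n W)
    simp only [AddCommGrpCat.hom_add, AddMonoidHom.add_apply, AddCommGrpCat.hom_comp,
      AddMonoidHom.comp_apply, AddCommGrpCat.hom_id, AddMonoidHom.id_apply] at h
    rw [hx, map_zero, add_zero] at h
    simp only [NatTrans.comp_app, ConcreteCategory.comp_apply]
    rw [← h, ← ConcreteCategory.comp_apply, ← NatTrans.comp_app]
    rw [show CechPre.dFree (fam w) (n + 1) ≫ c = 0 from hc]
    simp
  refine ⟨Injective.factorThru (cokernel.desc (kernel.ι (CechPre.dFree (fam w) n)) c hk)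
    (Abelian.factorThruCoimage (CechPre.dFree (fam w) n)), ?_⟩
  refine (congrArg (· ≫ _) (Abelian.coimage.fac (CechPre.dFree (fam w) n))).symm.trans ?_
  rw [Category.assoc, Injective.comp_factorThru, cokernel.π_desc]

variable (w)

/-- The fibre power of `V` over `T`. -/
abbrev pow (n : ℕ) : Over S := CechPre.obj (fam w) (fun _ : Fin (n + 1) => PUnit.unit.{u + 2})

/-- The structure map of the fibre power. -/
abbrev powHom (n : ℕ) : pow w n ⟶ T :=
  (∏ᶜ (fam w ∘ fun _ : Fin (n + 1) => PUnit.unit.{u + 2})).hom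

/-- The universal tuple. -/
abbrev powTup (n : ℕ) : Tp w (pow w n) n := CechPre.taut (fam w) _

variable {w}

/-- The morphism to the fibre power given by a tuple. -/
def toPow {W : Over S} {n : ℕ} (t : Tp w W n) : W ⟶ pow w n := CechPre.toObj (fam w) t

theorem toPow_hom {W : Over S} {n : ℕ} (t : Tp w W n) : toPow t ≫ powHom w n = t.pt 0 ≫ w :=
  ((congrArg (toPow t ≫ ·) (CechPre.π_hom (fam w) _ 0)).symm.trans (Category.assoc _ _ _).symm).trans
    (congrArg (· ≫ w) (CechPre.toObj_π (fam w) t 0))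

theorem tupMap_powTup {W : Over S} {n : ℕ} (t : Tp w W n) :
    CechPre.tupMap (fam w) (toPow t) (powTup w n) = t :=
  Tp.ext' fun k => CechPre.toObj_π (fam w) t k

theorem map_toPow {n : ℕ} (c : Co w P n) {W : Over S} (t : Tp w W n) :
    P.map (toPow t).op (ev c (powTup w n)) = ev c t := by
  rw [map_ev, tupMap_powTup]

/-- The cochain given by a section on the fibre power. -/
def ofSect {n : ℕ} (x : P.obj (op (pow w n))) : Co w P n :=
  CechPre.lift (fam w) P (fun W t => P.map (toPow (W := W.unop) t).op x) fun W W' g t => by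
    rw [show toPow (CechPre.tupMap (fam w) g.unop t) = g.unop ≫ toPow t from
      CechPre.toObj_map (fam w) g.unop t, op_comp, P.map_comp]
    rfl

theorem ev_ofSect {n : ℕ} (x : P.obj (op (pow w n))) {W : Over S} (t : Tp w W n) :
    ev (ofSect x) t = P.map (toPow t).op x :=
  CechPre.lift_gen (fam w) P _ _ (op W) t

/-- A cocycle in degree zero with values in an fppf sheaf comes from the base of a covering. -/
theorem exists_descend_of_mem (hw : Sieve.generate (Presieve.singleton w) ∈ EtFppf.J S T)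
    (G : EtFppf.AbF S) (c : Co w G.obj 0) (hc : dC w c = 0) :
    ∃ x : G.obj.obj (op T), ∀ (W : Over S) (t : Tp w W 0),
      ev c t = G.obj.map (t.pt 0 ≫ w).op x := by
  let x0 : G.obj.obj (op V) := ev c (mkTp (fun _ => 𝟙 V) (fun _ => rfl))
  have hG := ((isSheaf_iff_isSheaf_of_type _ _).1
    ((Presheaf.isSheaf_iff_isSheaf_forget _ G.obj (forget AddCommGrpCat.{u + 1})).1 G.property)) _
    hw
  rw [← Presieve.isSheafFor_iff_generate, Presieve.isSheafFor_singleton] at hG
  obtain ⟨x, hx, -⟩ := hG x0 (by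
    intro Z g₁ g₂ e
    let t2 : Tp w Z 1 := mkTp (Fin.cons g₂ fun _ => g₁) (by
      intro k; fin_cases k <;> simp [e])
    have h := congrArg (fun c' => ev c' t2) hc
    simp only [ev_dC, ev_zero, Fin.sum_univ_succ, Fin.sum_univ_zero, add_zero, Fin.val_zero, pow_zero,
      one_smul, Fin.val_succ, zero_add, pow_one, neg_smul, add_neg_eq_zero] at h
    show G.obj.map g₁.op x0 = G.obj.map g₂.op x0
    rw [map_ev, map_ev]
    refine Eq.trans ?_ (h.trans ?_)
    · refine congrArg (ev c) (Tp.ext' fun k => ?_)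
      obtain rfl := Subsingleton.elim (α := Fin 1) k 0
      simp [t2, mkTp, CechPre.tupFace, CechPre.tupMap, Tp.pt]
    · refine congrArg (ev c) (Tp.ext' fun k => ?_)
      obtain rfl := Subsingleton.elim (α := Fin 1) k 0
      simp [t2, mkTp, CechPre.tupFace, CechPre.tupMap, Tp.pt])
  refine ⟨x, fun W t => ?_⟩
  change G.obj.map w.op x = x0 at hx
  rw [op_comp, G.obj.map_comp, ConcreteCategory.comp_apply, hx, map_ev]
  refine congrArg (ev c) (Tp.ext' fun k => ?_)
  obtain rfl := Subsingleton.elim (α := Fin 1) k 0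
  simp [mkTp, CechPre.tupMap, Tp.pt]

/-- A cocycle in degree zero with values in an fppf sheaf comes from the base. -/
theorem exists_descend [IsFFCover w] (G : EtFppf.AbF S) (c : Co w G.obj 0) (hc : dC w c = 0) :
    ∃ x : G.obj.obj (op T), ∀ (W : Over S) (t : Tp w W 0),
      ev c t = G.obj.map (t.pt 0 ≫ w).op x :=
  exists_descend_of_mem (generate_singleton_mem w) G c hc

section Restrict

variable {V' T' : Over S} {w' : V' ⟶ T'} {h : T' ⟶ T} {q : V' ⟶ V} (e : w' ≫ h = q ≫ w)

/-- The tuple in `V` of a tuple in `V'`. -/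
def resTp {W : Over S} {n : ℕ} (t : Tp w' W n) : Tp w W n :=
  mkTp (fun k => t.pt k ≫ q) fun k => by
    have := t.2 k
    simp only [Category.assoc, ← e]
    exact (Category.assoc _ _ _).symm.trans ((congrArg (· ≫ h) this).trans (Category.assoc _ _ _))

/-- Restriction of cochains along a base change. -/
def res {n : ℕ} (c : Co w P n) : Co w' P n :=
  CechPre.lift (fam w') P (fun W t => ev c (resTp e (W := W.unop) t)) fun W W' g t => by
    refine Eq.trans ?_ (map_ev c g.unop (resTp e t)).symm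
    exact congrArg (ev c) (Tp.ext' fun k => Category.assoc _ _ _)

theorem ev_res {n : ℕ} (c : Co w P n) {W : Over S} (t : Tp w' W n) :
    ev (res e c) t = ev c (resTp e t) :=
  CechPre.lift_gen (fam w') P _ _ (op W) t

theorem res_dC {n : ℕ} (c : Co w P n) : res e (dC w c) = dC w' (res e c) :=
  co_ext fun W t => by
    rw [ev_res, ev_dC, ev_dC]
    refine Finset.sum_congr rfl fun k _ => congrArg _ ?_
    rw [ev_res]
    rfl

theorem res_comp {n : ℕ} (c : Co w P n) (φ : P ⟶ Q) : res e (c ≫ φ) = res e c ≫ φ :=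
  co_ext fun W t => by rw [ev_res, ev_comp, ev_comp, ev_res]

theorem res_sub {n : ℕ} (c c' : Co w P n) : res e (c - c') = res e c - res e c' :=
  co_ext fun W t => by rw [ev_res, ev_sub, ev_sub, ev_res, ev_res]

theorem res_zero {n : ℕ} : res e (0 : Co w P n) = 0 :=
  co_ext fun W t => by rw [ev_res, ev_zero, ev_zero]

theorem res_res {V'' T'' : Over S} {w'' : V'' ⟶ T''} {h' : T'' ⟶ T'} {q' : V'' ⟶ V'}
    (e' : w'' ≫ h' = q' ≫ w') (e'' : w'' ≫ h' ≫ h = (q' ≫ q) ≫ w) {n : ℕ} (c : Co w P n) :
    res e' (res e c) = res e'' c :=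
  co_ext fun W t => by
    rw [ev_res, ev_res, ev_res]
    exact congrArg (ev c) (Tp.ext' fun k => Category.assoc _ _ _)

end Restrict

end Groth.Agent.EtFppfCmp
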