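import Groth.Agent.EtFppfCmp.Sections
import Groth.Agent.EtDescSS.Etale
import Groth.Agent.CohTop.Descent.TotExact

/-!
# The descent spectral sequence of an fppf covering on the small étale sites
-/

set_option autoImplicit false
set_option linter.style.haveILetI false
set_option backward.isDefEq.respectTransparency.types false

universe u

open CategoryTheory CategoryTheory.Limits AlgebraicGeometry Opposite

noncomputable section

namespace Groth.Agent.EtFppfCmp

open Groth.Agent.EtaleSite Groth.Agent.CohTop.Descent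

variable {X Y : Scheme.{u}} (f : X ⟶ Y)

/-- The covering as a morphism of the big site. -/
abbrev cov : Over.mk f ⟶ Over.mk (𝟙 Y) := Over.homMk f (Category.comp_id f)

theorem generate_cov_mem [Flat f] [LocallyOfFinitePresentation f] [Surjective f] :
    Sieve.generate (Presieve.singleton (cov f)) ∈ EtFppf.J Y (Over.mk (𝟙 Y)) := by
  refine (GrothendieckTopology.mem_over_iff _ _).2 ?_
  let 𝒰 : Scheme.Cover.{u} (Scheme.precoverage (@Flat ⊓ @LocallyOfFinitePresentation)) Y :=
    Scheme.Cover.mkOfCovers PUnit.{u + 1} (fun _ => X) (fun _ => f)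
      (fun y => ⟨⟨⟩, (f.surjective y).choose, (f.surjective y).choose_spec⟩)
      (fun _ => ⟨‹Flat f›, ‹LocallyOfFinitePresentation f›⟩)
  refine Scheme.mem_grothendieckTopology_iff.2 ⟨𝒰, ?_⟩
  rintro Z k ⟨_⟩
  refine (Sieve.overEquiv_iff _ _).2 ?_
  refine ⟨Over.mk f, Over.homMk (𝟙 X) ((Category.id_comp f).trans (Category.comp_id f).symm),
    cov f, Presieve.singleton_self _, ?_⟩
  ext
  exact Category.id_comp f

variable {S : Scheme.{u}} {V T : Over S} (w : V ⟶ T)

/-- Composition with a morphism of sheaves on cochains. -/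
def coMap (n : ℕ) {G H : EtFppf.AbF S} (φ : G ⟶ H) : Co w G.obj n →+ Co w H.obj n :=
  AddMonoidHom.mk' (fun c => c ≫ φ.hom) fun c c' => Preadditive.add_comp _ _ _ c c' φ.hom

/-- Cochains, as a functor of the sheaf. -/
def coF (n : ℕ) : EtFppf.AbF S ⥤ AddCommGrpCat.{u + 1} where
  obj G := AddCommGrpCat.of (Co w G.obj n)
  map φ := AddCommGrpCat.ofHom (coMap w n φ)
  map_id G := AddCommGrpCat.hom_ext (AddMonoidHom.ext fun c =>
    Category.comp_id (show CechPre.free (fam w) n ⟶ G.obj from c))
  map_comp {G H K} φ ψ := AddCommGrpCat.hom_ext (AddMonoidHom.ext fun c =>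
    (Category.assoc (show CechPre.free (fam w) n ⟶ G.obj from c) φ.hom ψ.hom).symm)

instance (n : ℕ) : (coF w n).Additive where
  map_add {G H φ ψ} := AddCommGrpCat.hom_ext (AddMonoidHom.ext fun c =>
    Preadditive.comp_add _ _ _ c φ.hom ψ.hom)

/-- The differential on the cochains of a sheaf. -/
def dMap (n : ℕ) (G : EtFppf.AbF S) : Co w G.obj n →+ Co w G.obj (n + 1) :=
  AddMonoidHom.mk' (fun c => dC w c) fun c c' => Preadditive.comp_add _ _ _ _ c c'

/-- The differential as a natural transformation. -/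
def dNat (n : ℕ) : coF w n ⟶ coF w (n + 1) where
  app G := AddCommGrpCat.ofHom (dMap w n G)
  naturality G H φ := AddCommGrpCat.hom_ext (AddMonoidHom.ext fun c => dC_comp c φ.hom)

/-- Cochains are sections on the fibre power. -/
def coEquiv (n : ℕ) (G : EtFppf.AbF S) : Co w G.obj n ≃+ G.obj.obj (op (pow w n)) where
  toFun c := ev c (powTup w n)
  invFun x := ofSect x
  left_inv c := co_ext fun W t => by rw [ev_ofSect, map_toPow]
  right_inv x := by
    show ev (ofSect x) (powTup w n) = x
    rw [ev_ofSect, show toPow (powTup w n) = 𝟙 _ from CechPre.toObj_taut (fam w) _]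
    exact ConcreteCategory.congr_hom (G.obj.map_id _) x
  map_add' c c' := ev_add c c' _

/-- Cochains are sections on the fibre power, naturally. -/
def coIso (n : ℕ) : coF w n ≅ sectFun (pow w n) :=
  NatIso.ofComponents (fun G => (coEquiv w n G).toAddCommGrpIso)
    (fun {G H} φ => AddCommGrpCat.hom_ext (AddMonoidHom.ext fun c => rfl))

/-- The cochain of a section on the base. -/
def augFun (G : EtFppf.AbF S) (x : G.obj.obj (op T)) : Co w G.obj 0 :=
  CechPre.lift (fam w) G.obj (fun W t => G.obj.map (Tp.pt (W := W.unop) t 0 ≫ w).op x)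
    (fun W W' g t => by
      refine Eq.trans ?_ (map_map_apply G.obj g.unop _ x).symm
      exact congrArg (fun q : W'.unop ⟶ T => G.obj.map q.op x) (Category.assoc _ _ _))

theorem ev_augFun {G : EtFppf.AbF S} (x : G.obj.obj (op T)) {W : Over S} (t : Tp w W 0) :
    ev (augFun w G x) t = G.obj.map (t.pt 0 ≫ w).op x :=
  CechPre.lift_gen (fam w) G.obj _ _ (op W) t

theorem dC_augFun {G : EtFppf.AbF S} (x : G.obj.obj (op T)) : dC w (augFun w G x) = 0 :=
  co_ext fun W t => by
    rw [ev_dC, ev_zero]
    simp only [Fin.sum_univ_succ, Fin.sum_univ_zero, add_zero, Fin.val_zero, pow_zero, one_smul,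
      Fin.val_succ, zero_add, pow_one, neg_smul]
    rw [add_neg_eq_zero, ev_augFun, ev_augFun]
    refine congrArg (fun q' : W ⟶ T => G.obj.map q'.op x) ?_
    exact (t.2 _).trans (t.2 _).symm

/-- The augmentation on a sheaf. -/
def augMap (G : EtFppf.AbF S) : G.obj.obj (op T) →+ Co w G.obj 0 :=
  AddMonoidHom.mk' (augFun w G) fun x y => co_ext fun W t => by
    rw [ev_add, ev_augFun, ev_augFun, ev_augFun, map_add]

/-- The augmentation. -/
def augNat : sectFun T ⟶ coF w 0 where
  app G := AddCommGrpCat.ofHom (augMap w G)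
  naturality G H φ := AddCommGrpCat.hom_ext (AddMonoidHom.ext fun x => by
    show augFun w H (φ.hom.app (op T) x) = augFun w G x ≫ φ.hom
    refine co_ext fun W t => ?_
    rw [ev_comp, ev_augFun, ev_augFun]
    exact (NatTrans.naturality_apply φ.hom (t.pt 0 ≫ w).op x).symm)

variable (I : CochainComplex (EtFppf.AbF S) ℕ)

/-- The double complex. -/
def dblC : CochainComplex (CochainComplex AddCommGrpCat.{u + 1} ℕ) ℕ :=
  CochainComplex.of (fun p => ((coF w p).mapHomologicalComplex (ComplexShape.up ℕ)).obj I)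
    (fun p => (NatTrans.mapHomologicalComplex (dNat w p) (ComplexShape.up ℕ)).app I)
    (fun p => HomologicalComplex.hom_ext _ _ fun q =>
      AddCommGrpCat.hom_ext (AddMonoidHom.ext fun c => dC_dC (w := w) (P := (I.X q).obj) c))

theorem dblC_d (p q : ℕ) (c : Co w (I.X q).obj p) :
    ((dblC w I).d p (p + 1)).f q c = dC w c := by
  have h : ((dblC w I).d p (p + 1)).f q = AddCommGrpCat.ofHom (dMap w p (I.X q)) :=
    congrArg (fun φ : (dblC w I).X p ⟶ (dblC w I).X (p + 1) => φ.f q)
      (CochainComplex.of_d (fun p => ((coF w p).mapHomologicalComplex (ComplexShape.up ℕ)).obj I) _ p)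
  exact ConcreteCategory.congr_hom h c

/-- The augmentation of the double complex. -/
def dblAug : ((sectFun T).mapHomologicalComplex (ComplexShape.up ℕ)).obj I ⟶ (dblC w I).X 0 :=
  (NatTrans.mapHomologicalComplex (augNat w) (ComplexShape.up ℕ)).app I

theorem nonempty_tot_iso (hw : Sieve.generate (Presieve.singleton w) ∈ EtFppf.J S T)
    (hI : ∀ q, Injective (I.X q)) (k : ℕ) :
    Nonempty ((TotCx.tot (dblC w I)).homology (k : ℤ) ≅
      (((sectFun T).mapHomologicalComplex (ComplexShape.up ℕ)).obj I).homology k) := by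
  refine TotExact.nonempty_homology_iso (K := dblC w I) (fun p q z hz => ?_) _ (dblAug w I)
    (fun q y => ?_) (fun q => ?_) (fun q z hz => ?_) k
  · haveI := hI q
    haveI := injective_obj (I.X q)
    obtain ⟨b, hb⟩ := exists_of_dC_eq_zero (n := p) z ((dblC_d w I (p + 1) q z).symm.trans hz)
    exact ⟨b, (dblC_d w I p q b).trans hb⟩
  · exact (dblC_d w I 0 q (augFun w (I.X q) y)).trans (dC_augFun w (G := I.X q) y)
  · intro x x' h
    have hs := ((isSheaf_iff_isSheaf_of_type _ _).1
      ((Presheaf.isSheaf_iff_isSheaf_forget _ (I.X q).obj (forget AddCommGrpCat.{u + 1})).1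
        (I.X q).property)) _ hw
    rw [← Presieve.isSheafFor_iff_generate] at hs
    refine hs.isSeparatedFor.ext fun W g hg => ?_
    obtain ⟨rfl⟩ := hg
    let t₀ : Tp w V 0 := mkTp (fun _ => 𝟙 V) fun _ => rfl
    have h' := congrArg (fun c : Co w (I.X q).obj 0 => ev c t₀) h
    have e : ∀ y : (I.X q).obj.obj (op T), ev (augFun w (I.X q) y) t₀ = (I.X q).obj.map w.op y :=
      fun y => (ev_augFun w y t₀).trans
        (congrArg (fun q' : V ⟶ T => (I.X q).obj.map q'.op y) (Category.id_comp w))
    exact ((e x).symm.trans h').trans (e x')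
  · obtain ⟨x, hx⟩ := exists_descend_of_mem hw (I.X q) z ((dblC_d w I 0 q z).symm.trans hz)
    exact ⟨x, co_ext fun W t => (ev_augFun w x t).trans (hx W t).symm⟩

/-- The columns compute the cohomology of the fibre powers. -/
def colIso (p q : ℕ) : ((dblC w I).X p).homology q ≅
    (((sectFun (pow w p)).mapHomologicalComplex (ComplexShape.up ℕ)).obj I).homology q :=
  (HomologicalComplex.homologyFunctor _ _ q).mapIso
    ((NatIso.mapHomologicalComplex (coIso w p) (ComplexShape.up ℕ)).app I)

/-- The fibre power on the big site is the fibre power of schemes. -/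
def powIso (p : ℕ) : (pow (cov f) p).left ≅ widePullback Y (fun _ : Fin (p + 1) => X) (fun _ => f) :=
  let W : Over Y := Over.mk (WidePullback.base (fun _ : Fin (p + 1) => f))
  let π' : ∀ _ : Fin (p + 1), W ⟶ Over.mk f := fun k =>
    Over.homMk (WidePullback.π (fun _ : Fin (p + 1) => f) k) (WidePullback.π_arrow _ k)
  { hom := WidePullback.lift (pow (cov f) p).hom (fun k => ((powTup (cov f) p).pt k).left)
      (fun k => Over.w ((powTup (cov f) p).pt k))
    inv := (toPow (mkTp (w := cov f) π' fun k =>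
      Over.OverMorphism.ext ((WidePullback.π_arrow _ k).trans (WidePullback.π_arrow _ 0).symm))).left
    hom_inv_id := by
      let h : pow (cov f) p ⟶ W := Over.homMk (WidePullback.lift (pow (cov f) p).hom
        (fun k => ((powTup (cov f) p).pt k).left) (fun k => Over.w ((powTup (cov f) p).pt k)))
        (WidePullback.lift_base _ _ _ _)
      let i : W ⟶ pow (cov f) p := toPow (mkTp (w := cov f) π' fun k =>
        Over.OverMorphism.ext ((WidePullback.π_arrow _ k).trans (WidePullback.π_arrow _ 0).symm))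
      refine congrArg CommaMorphism.left (show h ≫ i = 𝟙 _ from CechPre.hom_ext (fam (cov f)) fun k => ?_)
      refine (Category.assoc _ _ _).trans ((congrArg (h ≫ ·) (CechPre.toObj_π (fam (cov f)) _ k)).trans ?_)
      rw [Category.id_comp]
      exact Over.OverMorphism.ext (WidePullback.lift_π _ _ _ _ k)
    inv_hom_id := by
      refine WidePullback.hom_ext _ _ _ (fun k => ?_) ?_
      · rw [Category.assoc, WidePullback.lift_π, Category.id_comp]
        exact congrArg CommaMorphism.left (CechPre.toObj_π (fam (cov f)) _ k)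
      · rw [Category.assoc, WidePullback.lift_base, Category.id_comp]
        exact Over.w _ }

theorem powIso_base (p : ℕ) :
    (powIso f p).hom ≫ WidePullback.base (fun _ : Fin (p + 1) => f) = (pow (cov f) p).hom :=
  WidePullback.lift_base _ _ _ _

/-- **The descent spectral sequence of an fppf covering.** -/
theorem exists_fppf_ss [Flat f] [LocallyOfFinitePresentation f] [Surjective f] (F : EtCoh.Ab Y) :
    ∃ (E : CohomologicalSpectralSequence AddCommGrpCat.{u + 1} 1)
      (a : SpSeq.Abutment E (fun n : ℤ =>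
        if 0 ≤ n then AddCommGrpCat.of (EtCoh.H Y F n.toNat) else AddCommGrpCat.of PUnit.{u + 2})),
      (∀ n, a.IsFinite n) ∧ SpSeq.IsBounded E ∧
      ∀ p q : ℤ, Nonempty ((E.page 1 le_rfl).X (p, q) ≅
        (if 0 ≤ p ∧ 0 ≤ q then
          AddCommGrpCat.of (EtCoh.H (widePullback Y (fun _ : Fin (p.toNat + 1) => X) (fun _ => f))
            ((EtCoh.pull (WidePullback.base (fun _ : Fin (p.toNat + 1) => f) :
              widePullback Y (fun _ : Fin (p.toNat + 1) => X) (fun _ => f) ⟶ Y)).obj F) q.toNat)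
         else AddCommGrpCat.of PUnit.{u + 2})) := by
  let R := injectiveResolution ((Pf Y).obj F)
  let K := dblC (cov f) R.cocomplex
  have htot : ∀ n : ℤ, Nonempty ((TotCx.tot K).homology n ≅
      if 0 ≤ n then AddCommGrpCat.of (EtCoh.H Y F n.toNat) else AddCommGrpCat.of PUnit.{u + 2}) := by
    intro n
    by_cases hn : 0 ≤ n
    · obtain ⟨k, rfl⟩ := Int.eq_ofNat_of_zero_le hn
      obtain ⟨e₁⟩ := nonempty_tot_iso (cov f) R.cocomplex (generate_cov_mem f) (fun q => R.injective q) k
      obtain ⟨e₂⟩ := nonempty_sections_homology_iso (Over.mk (𝟙 Y)) F R k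
      exact ⟨e₁ ≪≫ e₂ ≪≫ (EtCoh.HF Y k).mapIso ((EtaleSite.HpullComp.pullId Y).app F) ≪≫
        eqToIso (by rw [if_pos hn, Int.toNat_natCast k]; rfl)⟩
    · rw [if_neg hn]
      exact ⟨(TotExact.isZero_homology_of_neg (by omega)).iso
        (AddCommGrpCat.isZero_of_subsingleton _)⟩
  obtain ⟨a, ha⟩ := TotCx.exists_abutment K _ fun n => (htot n).some
  refine ⟨TotCx.ss K, a, ha, TotCx.isBounded_ss _, fun p q => ?_⟩
  by_cases hpq : 0 ≤ p ∧ 0 ≤ q
  · rw [if_pos hpq]
    obtain ⟨p, rfl⟩ := Int.eq_ofNat_of_zero_le hpq.1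
    obtain ⟨q, rfl⟩ := Int.eq_ofNat_of_zero_le hpq.2
    obtain ⟨e₁⟩ := TotCx.nonempty_page_one_iso K p q
    obtain ⟨e₂⟩ := nonempty_sections_homology_iso (pow (cov f) p) F R q
    obtain ⟨e₃⟩ := EtDescSS.Etale.nonempty_H_pull_iso_of_iso (powIso f p) (pow (cov f) p).hom
      (WidePullback.base (fun _ : Fin (p + 1) => f)) (powIso_base f p) F q
    exact ⟨e₁ ≪≫ colIso (cov f) R.cocomplex p q ≪≫ e₂ ≪≫ e₃⟩
  · rw [if_neg hpq]
    exact ⟨(TotCx.isZero_page_one _ p q hpq).iso (AddCommGrpCat.isZero_of_subsingleton _)⟩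

end Groth.Agent.EtFppfCmp
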