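import Groth.Agent.EtFppfCmp.Acyclic
import Groth.Agent.BigBC.Rpush

/-!
# Direct images along finite morphisms commute with the inverse image to the big fppf site
-/

set_option autoImplicit false
set_option linter.style.haveILetI false
set_option backward.isDefEq.respectTransparency.types false

universe u

open CategoryTheory CategoryTheory.Limits AlgebraicGeometry Opposite

noncomputable section

namespace Groth.Agent.EtFppfCmp

open Groth.Agent.EtaleSite Groth.Agent.BigBC

variable {X Y : Scheme.{u}} (f : X ⟶ Y)

theorem preservesFiniteLimits_pushBig : PreservesFiniteLimits (EtFppf.pushBig f) :=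
  have : PreservesLimitsOfSize.{0, 0} (EtFppf.pushBig f) :=
    (BigSite.bigAdj Scheme.fppfPrecoverage f AddCommGrpCat.{u + 1}).rightAdjoint_preservesLimits
  PreservesLimitsOfSize.preservesFiniteLimits _

/-- Direct image along a finite morphism turns locally liftable morphisms into epimorphisms. -/
theorem LiftsEt.epi_pushBig [IsFinite f] {G H : EtFppf.AbF X} {π : G ⟶ H} (hπ : LiftsEt π) :
    Epi ((EtFppf.pushBig f).map π) := by
  suffices Sheaf.IsLocallySurjective ((EtFppf.pushBig f).map π) from inferInstance
  constructor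
  intro T t
  let P : Over X := (Over.pullback f).obj T
  let h : pullback T.hom f ⟶ T.left := pullback.fst T.hom f
  refine (fun hm => (BigSite.J_mono BigSite.etalePrecoverage_le_fppfPrecoverage Y) _ hm) ?_
  refine mem_of_forall_etale _ fun v => ?_
  haveI := hπ.epi P
  let π' : (resAt P).obj G ⟶ (resAt P).obj H := (resAt P).map π
  haveI : Epi ((EtCoh.push h).map π') := epi_push_map h π'
  have : Sheaf.IsLocallySurjective ((EtCoh.push h).map π') :=
    (Sheaf.isLocallySurjective_iff_epi' AddCommGrpCat.{u + 1} _).2 inferInstance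
  let j₀ : Over.mk (((EtCoh.bc h).obj (EtCoh.top T.left)).hom ≫ P.hom) ⟶ P :=
    Over.homMk ((EtCoh.bc h).obj (EtCoh.top T.left)).hom rfl
  obtain ⟨V, k, z, ⟨e, hek⟩, hz⟩ := exists_of_mem_topology
    (Presheaf.imageSieve_mem T.left.smallEtaleTopology ((EtCoh.push h).map π').hom
      (U := op (EtCoh.top T.left)) (H.obj.map j₀.op t)) v
  let T' : Over Y := Over.mk (V.hom ≫ T.hom)
  let g : T' ⟶ T := Over.homMk V.hom rfl
  let m : pullback (V.hom ≫ T.hom) f ⟶ pullback V.hom h :=
    pullback.lift (pullback.fst (V.hom ≫ T.hom) f)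
      (pullback.lift (pullback.fst (V.hom ≫ T.hom) f ≫ V.hom) (pullback.snd _ _)
        (by rw [Category.assoc]; exact pullback.condition))
      (by rw [pullback.lift_fst])
  let j : (Over.pullback f).obj T' ⟶ Over.mk (((EtCoh.bc h).obj V).hom ≫ P.hom) := Over.homMk m (by
    show m ≫ pullback.snd V.hom h ≫ pullback.snd T.hom f = pullback.snd (V.hom ≫ T.hom) f
    rw [pullback.lift_snd_assoc, pullback.lift_snd])
  refine ⟨T', g, z, ⟨G.obj.map j.op e, ?_⟩, V.prop, ?_⟩
  · refine (NatTrans.naturality_apply π.hom j.op e).trans ?_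
    refine (congrArg (H.obj.map j.op) hek).trans ?_
    refine (congrArg (H.obj.map j.op) (map_map_apply H.obj _ j₀ t)).trans ?_
    rw [map_map_apply]
    refine congrArg (fun q : (Over.pullback f).obj T' ⟶ P => H.obj.map q.op t)
      (Over.OverMorphism.ext ?_)
    show m ≫ ((EtCoh.bc h).map k).left ≫ pullback.snd (EtCoh.top T.left).hom h =
      ((Over.pullback f).map g).left
    refine (congrArg (m ≫ ·) (MorphismProperty.Over.w ((EtCoh.bc h).map k))).trans ?_
    refine (pullback.lift_snd _ _ _).trans ?_
    refine pullback.hom_ext ?_ ?_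
    · rw [pullback.lift_fst]
      exact (pullback.lift_fst _ _ _).symm
    · rw [pullback.lift_snd]
      exact (pullback.lift_snd _ _ _).symm
  · show V.hom z = v
    rw [← hz, show k.left = V.hom from (Category.comp_id _).symm.trans (MorphismProperty.Over.w k)]
    rfl

/-- Higher direct images on the big fppf site of inverse images vanish for finite morphisms. -/
theorem isZero_RpushBig [IsFinite f] [EtFppf.ACont X] (F : EtCoh.Ab X) (k : ℕ) :
    IsZero ((EtFppf.RpushBig f (k + 1)).obj ((EtFppf.aPull X).obj F)) := by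
  haveI := preservesFiniteLimits_pushBig f
  exact isZero_rightDerived_of_acyc (EtFppf.pushBig f) (fun π hπ => hπ.epi_pushBig f) k _ (acyc_aPull F)

variable (F : EtCoh.Ab X)

/-- The adjoint of the comparison of direct images. -/
def psi : (EtCoh.push f).obj F ⟶ (BigSite.resEt Scheme.etalePrecoverage Y).obj
    ((BigSite.pushBig Scheme.etalePrecoverage f AddCommGrpCat.{u + 1}).obj (piF F)) :=
  (EtCoh.push f).map ((BigSite.piEtAdj Scheme.etalePrecoverage X).unit.app F) ≫
    (pushBigResIso f).inv.app (piF F)

/-- The comparison of direct images on the big étale site. -/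
def phi : piF ((EtCoh.push f).obj F) ⟶
    (BigSite.pushBig Scheme.etalePrecoverage f AddCommGrpCat.{u + 1}).obj (piF F) :=
  ((BigSite.piEtAdj Scheme.etalePrecoverage Y).homEquiv _ _).symm (psi f F)

theorem phi_eta (U : Y.Etale) (c : ((EtCoh.push f).obj F).obj.obj (op U)) :
    (phi f F).hom.app (op ((EtFppf.a Y).obj U))
        (((BigSite.piEtAdj Scheme.etalePrecoverage Y).unit.app ((EtCoh.push f).obj F)).hom.app (op U) c) =
      (piF F).obj.map ((aPullbackIso f).hom.app U).op
        (((BigSite.piEtAdj Scheme.etalePrecoverage X).unit.app F).hom.app (op ((EtCoh.bc f).obj U)) c) := by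
  have h := congrArg (fun k => k.hom.app (op U) c)
    (Adjunction.homEquiv_unit (adj := BigSite.piEtAdj Scheme.etalePrecoverage Y) _ _ (phi f F))
  rw [phi, Equiv.apply_symm_apply] at h
  refine h.symm.trans ?_
  simp [psi, pushBigResIso]
  rfl

theorem aPullbackIso_hom_fst (U : Y.Etale) :
    ((aPullbackIso f).hom.app U).left ≫ pullback.fst U.hom f = pullback.fst U.hom f := by
  rfl

end Groth.Agent.EtFppfCmp
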