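import Groth.Agent.EtaleSite.SH
import Groth.Agent.HyperLib.DerivedHom
import Groth.Prelude.Def_RDer

/-!
# Global sections on the small étale site: derived functors are cohomology
-/

set_option autoImplicit false
set_option backward.isDefEq.respectTransparency false

universe u

open CategoryTheory CategoryTheory.Limits AlgebraicGeometry Opposite CategoryTheory.Abelian

noncomputable section

namespace Groth.Agent.EtFppfCmp

/-- The constant sheaf `ℤ` as the object corepresenting global sections. -/
abbrev constInt (X : Scheme.{u}) : EtCoh.Ab X :=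
  (constantSheaf X.smallEtaleTopology AddCommGrpCat.{u + 1}).obj (AddCommGrpCat.of (ULift.{u + 1} ℤ))

/-- Degree zero cohomology is sections. -/
abbrev s₀ {X : Scheme.{u}} (G : EtCoh.Ab X) : EtCoh.H X G 0 ≃+ EtCoh.sect G (EtCoh.top X) :=
  Sheaf.H.equiv₀ G (EtCore.topIsTerminal X)

/-- Cohomology as `Ext` out of the constant sheaf. -/
def HFIso (X : Scheme.{u}) (n : ℕ) : EtCoh.HF X n ≅ extFunctorObj (constInt X) n :=
  NatIso.ofComponents (fun _ => Iso.refl _) (fun {F G} a => by
    ext x
    exact Sheaf.H.map_apply a x)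

instance additive_gsec (X : Scheme.{u}) : (EtCore.gsec X).Additive where

theorem nonempty_gsec_rightDerived_iso (X : Scheme.{u}) (n : ℕ) :
    Nonempty ((EtCore.gsec X).rightDerived n ≅ EtCoh.HF X n) := by
  haveI : PreservesFiniteLimits (EtCore.gsec X) :=
    haveI := (EtCore.constAdj X).rightAdjoint_preservesLimits
    inferInstance
  let e₀ : EtCore.gsec X ≅ EtCoh.HF X 0 :=
    NatIso.ofComponents (fun F => (s₀ F).symm.toAddCommGrpIso) (fun {F G} a => by
      ext x
      refine (s₀ G).injective (((s₀ G).apply_symm_apply _).trans ?_)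
      refine Eq.trans ?_ (Sheaf.H.equiv₀_naturality (EtCore.topIsTerminal X) _ _)
      exact congrArg _ ((s₀ F).apply_symm_apply x).symm)
  obtain ⟨e⟩ := Groth.Agent.HyperLib.DerivedHom.nonempty_rightDerived_iso (EtCore.gsec X)
    (Groth.Agent.HyperLib.DerivedHom.extDelta (constInt X))
    (fun m F => ⟨Injective.under F, Injective.ι F, inferInstance, by
      ext x
      exact Ext.eq_zero_of_injective _⟩)
    (e₀ ≪≫ HFIso X 0) n
  exact ⟨e ≪≫ (HFIso X n).symm⟩

end Groth.Agent.EtFppfCmp
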