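import Groth.Agent.BigBC.Fpqc
import Groth.Agent.BigBC.PiPull

/-!
# The inverse image from the small étale site to the big fppf site

`π⁻¹F` on the big étale site is already an fppf sheaf, so it is the inverse image on the big fppf
site, and the unit of that adjunction is an isomorphism.
-/

set_option autoImplicit false
set_option backward.isDefEq.respectTransparency.types false

universe u

open CategoryTheory CategoryTheory.Limits AlgebraicGeometry Opposite

namespace Groth.Agent.EtFppfCmp

variable (S : Scheme.{u})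

/-- The fppf topology is below the fpqc topology on the big site. -/
theorem J_fppf_le_fpqc : EtFppf.J S ≤ QuotSh.J Scheme.fpqcPrecoverage S :=
  BigSite.J_mono Scheme.fppfPrecoverage_le_fpqcPrecoverage S

/-- Regard an fppf sheaf as a sheaf on the big étale site. -/
noncomputable abbrev toEt : EtFppf.AbF S ⥤ BigSite.Ab Scheme.etalePrecoverage S :=
  BigSite.eps Scheme.etalePrecoverage Scheme.fppfPrecoverage S AddCommGrpCat.{u + 1}

variable {S}

theorem isSheaf_piObj (F : EtCoh.Ab S) :
    Presheaf.IsSheaf (EtFppf.J S) ((BigSite.piEtPull Scheme.etalePrecoverage S).obj F).obj := by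
  have h := Groth.Agent.BigBC.isSheaf_fpqc_piEtPull F
  rw [Presheaf.isSheaf_iff_isSheaf_forget _ _ (forget AddCommGrpCat.{u + 1}), isSheaf_iff_isSheaf_of_type] at h ⊢
  exact Presieve.isSheaf_of_le _ (J_fppf_le_fpqc S) h

variable (S)

/-- `π⁻¹` with values in fppf sheaves. -/
noncomputable def Pf : EtCoh.Ab S ⥤ EtFppf.AbF S where
  obj F := ⟨((BigSite.piEtPull Scheme.etalePrecoverage S).obj F).obj, isSheaf_piObj F⟩
  map φ := ⟨((BigSite.piEtPull Scheme.etalePrecoverage S).map φ).hom⟩
  map_id F := by
    ext : 1
    exact congrArg (fun k => k.hom) ((BigSite.piEtPull Scheme.etalePrecoverage S).map_id F)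
  map_comp φ ψ := by
    ext : 1
    exact congrArg (fun k => k.hom) ((BigSite.piEtPull Scheme.etalePrecoverage S).map_comp φ ψ)

/-- A morphism of fppf sheaves and the underlying morphism of étale sheaves. -/
noncomputable def homEquivEps (G G' : EtFppf.AbF S) : (G ⟶ G') ≃ ((toEt S).obj G ⟶ (toEt S).obj G') where
  toFun φ := (toEt S).map φ
  invFun ψ := ⟨ψ.hom⟩
  left_inv _ := rfl
  right_inv _ := rfl

/-- The adjunction `π⁻¹ ⊣ a_*` with values in fppf sheaves. -/
noncomputable def PfAdj : Pf S ⊣ EtFppf.aPush S :=
  Adjunction.mkOfHomEquiv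
    { homEquiv := fun F G =>
        (homEquivEps S ((Pf S).obj F) G).trans
          ((BigSite.piEtAdj Scheme.etalePrecoverage S).homEquiv F ((toEt S).obj G))
      homEquiv_naturality_left_symm := by
        intro F' F G f g
        apply (homEquivEps S _ _).injective
        exact (BigSite.piEtAdj Scheme.etalePrecoverage S).homEquiv_naturality_left_symm (Y := (toEt S).obj G) f g
      homEquiv_naturality_right := by
        intro F G G' f g
        exact (BigSite.piEtAdj Scheme.etalePrecoverage S).homEquiv_naturality_right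
          ((toEt S).map f) ((toEt S).map g) }

theorem PfAdj_unit_app (F : EtCoh.Ab S) :
    (PfAdj S).unit.app F = (BigSite.piEtAdj Scheme.etalePrecoverage S).unit.app F :=
  Adjunction.homEquiv_id _ F

instance isIso_PfAdj_unit_app (F : EtCoh.Ab S) : IsIso ((PfAdj S).unit.app F) := by
  rw [PfAdj_unit_app]
  exact (Groth.Agent.S6184.result S).2 F

/-- `π⁻¹` on the fppf site is the inverse image. -/
noncomputable def aPullIso [EtFppf.ACont S] : EtFppf.aPull S ≅ Pf S :=
  Adjunction.leftAdjointUniq (EtFppf.aAdj S) (PfAdj S)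

theorem isIso_aAdj_unit_app [EtFppf.ACont S] (F : EtCoh.Ab S) :
    IsIso ((EtFppf.aAdj S).unit.app F) := by
  have h := Adjunction.unit_leftAdjointUniq_hom_app (EtFppf.aAdj S) (PfAdj S) F
  have : IsIso ((EtFppf.aAdj S).unit.app F ≫ (EtFppf.aPush S).map ((aPullIso S).hom.app F)) :=
    h.symm ▸ isIso_PfAdj_unit_app S F
  exact IsIso.of_isIso_comp_right _ ((EtFppf.aPush S).map ((aPullIso S).hom.app F))

end Groth.Agent.EtFppfCmp
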