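import Groth.Agent.EtFppfCmp.FinitePush
import Mathlib.CategoryTheory.Sites.LocallyBijective

/-!
# The comparison of finite direct images is an isomorphism
-/

set_option autoImplicit false
set_option linter.style.haveILetI false
set_option backward.isDefEq.respectTransparency.types false

universe u

open CategoryTheory CategoryTheory.Limits AlgebraicGeometry Opposite

noncomputable section

namespace Groth.Agent.EtFppfCmp

open Groth.Agent.EtaleSite Groth.Agent.BigBC

section Values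

variable {S : Scheme.{u}} {F : EtCoh.Ab S} {Ω : Type u} [Field Ω] [IsSepClosed Ω]
  {ξ : Spec (CommRingCat.of Ω) ⟶ S}

/-- The value at a geometric point of a section coming from the small étale site. -/
def val (U : S.Etale) (x : (Scheme.pointSmallEtale ξ).fiber.obj U) (u : F.obj.obj (op U)) :
    (piF F).obj.obj (op (Over.mk ξ)) :=
  (piF F).obj.map (show Over.mk ξ ⟶ (EtFppf.a S).obj U from x).op
    (((BigSite.piEtAdj Scheme.etalePrecoverage S).unit.app F).hom.app (op U) u)

theorem val_res {W U : S.Etale} (g : W ⟶ U) (y : (Scheme.pointSmallEtale ξ).fiber.obj W)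
    (u : F.obj.obj (op U)) :
    val W y (F.obj.map g.op u) = val U ((Scheme.pointSmallEtale ξ).fiber.map g y) u := by
  simp only [val]
  refine (congrArg (fun z => (piF F).obj.map (show Over.mk ξ ⟶ (EtFppf.a S).obj W from y).op z)
    (NatTrans.naturality_apply ((BigSite.piEtAdj Scheme.etalePrecoverage S).unit.app F).hom g.op u)).trans ?_
  exact (map_comp_apply' (piF F) (show Over.mk ξ ⟶ (EtFppf.a S).obj W from y) ((EtFppf.a S).map g) _).symm

theorem val_eq_of_germ_eq {U U' : S.Etale} {x : (Scheme.pointSmallEtale ξ).fiber.obj U}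
    {x' : (Scheme.pointSmallEtale ξ).fiber.obj U'} {u : F.obj.obj (op U)} {u' : F.obj.obj (op U')}
    (h : germ ξ F U x u = germ ξ F U' x' u') : val U x u = val U' x' u' := by
  let E : (Scheme.pointSmallEtale ξ).fiber.Elements := ⟨U, x⟩
  let E' : (Scheme.pointSmallEtale ξ).fiber.Elements := ⟨U', x'⟩
  let M := IsCofiltered.min E E'
  let a : M ⟶ E := IsCofiltered.minToLeft _ _
  let b : M ⟶ E' := IsCofiltered.minToRight _ _
  have ha : (Scheme.pointSmallEtale ξ).fiber.map a.1 M.2 = x := a.2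
  have hb : (Scheme.pointSmallEtale ξ).fiber.map b.1 M.2 = x' := b.2
  have h' : germ ξ F M.1 M.2 (F.obj.map a.1.op u) = germ ξ F M.1 M.2 (F.obj.map b.1.op u') := by
    rw [germ_res, germ_res, ha, hb, h]
  obtain ⟨W, g, y, hy, hg⟩ := (germ_eq_iff ξ F M.1 M.2 _ _).1 h'
  have h1 : val M.1 M.2 (F.obj.map a.1.op u) = val M.1 M.2 (F.obj.map b.1.op u') := by
    refine (congrArg (fun z => val M.1 z _) hy.symm).trans ?_
    refine ((val_res g y _).symm.trans ?_).trans ((val_res g y _).trans (congrArg (fun z => val M.1 z _) hy))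
    exact congrArg (val W y) hg
  refine ((congrArg (fun z => val U z u) ha).symm.trans (val_res a.1 M.2 u).symm).trans ?_
  exact h1.trans ((val_res b.1 M.2 u').trans (congrArg (fun z => val U' z u') hb))

theorem val_zero (U : S.Etale) (x : (Scheme.pointSmallEtale ξ).fiber.obj U) :
    val U x (0 : F.obj.obj (op U)) = 0 := by
  rw [val, map_zero]
  exact map_zero _

theorem germ_eq_zero_of_val (U : S.Etale) (x : (Scheme.pointSmallEtale ξ).fiber.obj U)
    (u : F.obj.obj (op U)) (h : val U x u = 0) : germ ξ F U x u = 0 := by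
  obtain ⟨θ, hθ, hθg⟩ := exists_stalk_comparison ξ F
  apply hθ
  refine (hθg U x u).trans ?_
  rw [map_zero]
  exact germ_eq_zero_of_map ξ (piF F) (show Over.mk ξ ⟶ (EtFppf.a S).obj U from x) _ h

theorem exists_val_eq (s : (piF F).obj.obj (op (Over.mk ξ))) :
    ∃ (U : S.Etale) (x : (Scheme.pointSmallEtale ξ).fiber.obj U) (u : F.obj.obj (op U)),
      val U x u = s := by
  obtain ⟨W, g, w, U, x, u, he, hw, hu⟩ := exists_localForm F (T := Over.mk ξ) s
    (default : Spec (CommRingCat.of Ω))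
  obtain ⟨l, h₁, -⟩ := Scheme.exists_fac_of_etale_of_isSepClosed g.left
    (𝟙 (Spec (CommRingCat.of Ω))) w hw
  let l' : Over.mk ξ ⟶ W := Over.homMk l (by
    change l ≫ W.hom = ξ
    rw [← Over.w g, reassoc_of% h₁]
    rfl)
  refine ⟨U, (l' ≫ x : Over.mk ξ ⟶ (EtFppf.a S).obj U), u, ?_⟩
  rw [val, map_comp_apply', ← hu, ← map_comp_apply',
    show l' ≫ g = 𝟙 _ from Over.OverMorphism.ext h₁]
  exact ConcreteCategory.congr_hom ((piF F).obj.map_id _) _

end Values

variable {X Y : Scheme.{u}} (f : X ⟶ Y) [IsFinite f] {F : EtCoh.Ab X}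

/-- The comparison on a section coming from the small étale site, at a point. -/
theorem map_phi_eta {T : Over Y} (U : Y.Etale) (x : T ⟶ (EtFppf.a Y).obj U)
    (c : ((EtCoh.push f).obj F).obj.obj (op U)) {Ω : Type u} [Field Ω] [IsSepClosed Ω]
    {ζ₀ : Spec (CommRingCat.of Ω) ⟶ X} (ζ : Over.mk ζ₀ ⟶ (Over.pullback f).obj T) :
    (piF F).obj.map ζ.op ((phi f F).hom.app (op T)
        ((piF ((EtCoh.push f).obj F)).obj.map x.op
          (((BigSite.piEtAdj Scheme.etalePrecoverage Y).unit.app ((EtCoh.push f).obj F)).hom.app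
            (op U) c))) =
      val ((EtCoh.bc f).obj U)
        (show Over.mk ζ₀ ⟶ (EtFppf.a X).obj ((EtCoh.bc f).obj U) from
          ζ ≫ (Over.pullback f).map x ≫ (aPullbackIso f).hom.app U) c := by
  rw [NatTrans.naturality_apply, phi_eta]
  show (piF F).obj.map ζ.op ((piF F).obj.map ((Over.pullback f).map x).op _) = _
  rw [← map_comp_apply', ← map_comp_apply', Category.assoc]
  rfl

/-- The point of the base change above a geometric point. -/
def pbPt {T : Over Y} {Ω : Type u} [Field Ω] {ξ : Spec (CommRingCat.of Ω) ⟶ Y}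
    (τ : Over.mk ξ ⟶ T) (ζ₀ : Spec (CommRingCat.of Ω) ⟶ X) (h : ζ₀ ≫ f = ξ) :
    Over.mk ζ₀ ⟶ (Over.pullback f).obj T :=
  Over.homMk (pullback.lift τ.left ζ₀ ((Over.w τ).trans h.symm)) (pullback.lift_snd _ _ _)

theorem pbPt_fiber {T : Over Y} {Ω : Type u} [Field Ω] [IsSepClosed Ω]
    {ξ : Spec (CommRingCat.of Ω) ⟶ Y} (τ : Over.mk ξ ⟶ T) (U : Y.Etale)
    (x : T ⟶ (EtFppf.a Y).obj U) (ζ₀ : Spec (CommRingCat.of Ω) ⟶ X) (h : ζ₀ ≫ f = ξ) :
    pbPt f τ ζ₀ h ≫ (Over.pullback f).map x ≫ (aPullbackIso f).hom.app U =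
      (show Over.mk ζ₀ ⟶ (EtFppf.a X).obj ((EtCoh.bc f).obj U) from
        bcPt f ζ₀ h U (show (Scheme.pointSmallEtale ξ).fiber.obj U from τ ≫ x)) := by
  refine Over.OverMorphism.ext (pullback.hom_ext ?_ ?_)
  · refine Eq.trans ?_ (pullback.lift_fst _ _ _).symm
    show (pullback.lift τ.left ζ₀ _ ≫ ((Over.pullback f).map x).left ≫
      ((aPullbackIso f).hom.app U).left) ≫ pullback.fst U.hom f = _
    simp only [Category.assoc]
    rw [aPullbackIso_hom_fst]
    show pullback.lift τ.left ζ₀ _ ≫ pullback.lift _ _ _ ≫ pullback.fst _ _ = τ.left ≫ x.left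
    rw [pullback.lift_fst, pullback.lift_fst_assoc]
  · refine Eq.trans ?_ (pullback.lift_snd _ _ _).symm
    exact Over.w (pbPt f τ ζ₀ h ≫ (Over.pullback f).map x ≫ (aPullbackIso f).hom.app U)

/-- A section vanishing on the fibre of a finite morphism vanishes near it. -/
theorem exists_zero_nbhd' {T : Over Y} (s : (piF F).obj.obj (op ((Over.pullback f).obj T)))
    {Ω : Type u} [Field Ω] [IsAlgClosed Ω] {ξ : Spec (CommRingCat.of Ω) ⟶ Y} (τ : Over.mk ξ ⟶ T)
    (hs : ∀ (ζ₀ : Spec (CommRingCat.of Ω) ⟶ X) (h : ζ₀ ≫ f = ξ),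
      (piF F).obj.map (pbPt f τ ζ₀ h).op s = 0) :
    ∃ (T' : Over Y) (g : T' ⟶ T) (t' : T'.left), Etale g.left ∧
      g.left t' = τ.left (default : Spec (CommRingCat.of Ω)) ∧
      (piF F).obj.map ((Over.pullback f).map g).op s = 0 := by
  let h : pullback T.hom f ⟶ T.left := pullback.fst T.hom f
  let y : T.left := τ.left (default : Spec (CommRingCat.of Ω))
  let P : Over X := (Over.pullback f).obj T
  let O : Set P.left := {z | VanishAt (piF F) s z}
  have hfib : ∀ z : P.left, h z = y → z ∈ O := fun z hz => by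
    obtain ⟨l, hl, hlz⟩ := exists_point_over h τ.left z hz
    have h2 : (l ≫ pullback.snd T.hom f) ≫ f = ξ := by
      rw [Category.assoc, ← pullback.condition, ← Category.assoc]
      exact (congrArg (· ≫ T.hom) hl).trans (Over.w τ)
    have h1 := isRigid_piEtPull F P s Ω _ (pbPt f τ _ h2) (hs _ h2)
    have h3 : (pbPt f τ _ h2).left (default : Spec (CommRingCat.of Ω)) = z := by
      have : (pbPt f τ _ h2).left = l :=
        pullback.hom_ext ((pullback.lift_fst _ _ _).trans hl.symm) (pullback.lift_snd _ _ _)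
      rw [this]
      exact hlz
    rw [h3] at h1
    exact h1
  let U : T.left.Opens := ⟨(h '' Oᶜ)ᶜ,
    (h.isClosedMap _ (isOpen_vanishAt s).isClosed_compl).isOpen_compl⟩
  have hy : y ∈ U := fun ⟨z, hz, hzy⟩ => hz (hfib z hzy)
  let T' : Over Y := Over.mk (U.ι ≫ T.hom)
  let g : T' ⟶ T := Over.homMk U.ι rfl
  refine ⟨T', g, ⟨y, hy⟩, (inferInstance : Etale U.ι), rfl, ?_⟩
  refine eq_zero_of_points (isRigid_piEtPull F) _ fun Ω' _ _ ξ' t => ?_
  rw [← map_comp_apply']
  refine map_eq_zero_of_vanishAt _ ?_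
  let z : P.left := (t ≫ (Over.pullback f).map g).left (default : Spec (CommRingCat.of Ω'))
  show z ∈ O
  by_contra hz
  have hU : h z ∈ U := by
    have h2 : h z = U.ι ((t.left ≫ pullback.fst T'.hom f) (default : Spec (CommRingCat.of Ω'))) := by
      show ((t ≫ (Over.pullback f).map g).left ≫ pullback.fst T.hom f) _ = _
      rw [show (t ≫ (Over.pullback f).map g).left ≫ pullback.fst T.hom f =
        (t.left ≫ pullback.fst T'.hom f) ≫ U.ι from by
          rw [Over.comp_left, Category.assoc, Category.assoc]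
          exact congrArg (t.left ≫ ·) (pullback.lift_fst _ _ _)]
      rfl
    rw [h2]
    exact ((t.left ≫ pullback.fst T'.hom f) (default : Spec (CommRingCat.of Ω'))).2
  exact hU ⟨z, hz, rfl⟩

theorem phi_injective {T : Over Y} (s : (piF ((EtCoh.push f).obj F)).obj.obj (op T))
    (h : (phi f F).hom.app (op T) s = 0) : s = 0 := by
  refine eq_zero_of_points (isRigid_piEtPull ((EtCoh.push f).obj F)) _ fun Ω _ _ ξ τ => ?_
  let L := AlgebraicClosure Ω
  let σ : Spec (CommRingCat.of L) ⟶ Spec (CommRingCat.of Ω) :=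
    Spec.map (CommRingCat.ofHom (algebraMap Ω L))
  let τL : Over.mk (σ ≫ ξ) ⟶ T := Over.homMk (σ ≫ τ.left) (by
    show (σ ≫ τ.left) ≫ T.hom = σ ≫ ξ
    rw [Category.assoc, Over.w τ]
    rfl)
  suffices hL : (piF ((EtCoh.push f).obj F)).obj.map τL.op s = 0 by
    have hv := isRigid_piEtPull ((EtCoh.push f).obj F) T s L _ τL hL
    rw [show τL.left (default : Spec (CommRingCat.of L)) = τ.left (default : Spec (CommRingCat.of Ω)) from
      congrArg τ.left (Subsingleton.elim (α := Spec (CommRingCat.of Ω)) _ _)] at hv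
    exact map_eq_zero_of_vanishAt τ hv
  obtain ⟨U, x, c, hc⟩ := exists_val_eq ((piF ((EtCoh.push f).obj F)).obj.map τL.op s)
  rw [← hc]
  refine (val_eq_of_germ_eq (u' := 0) ?_).trans (val_zero U x)
  rw [map_zero]
  refine eq_zero_of_cmpAt f (σ ≫ ξ) F _ fun ζ₀ hζ₀ => ?_
  rw [cmpAt_germ]
  refine germ_eq_zero_of_val _ _ _ ?_
  have h1 := map_phi_eta f (T := Over.mk (σ ≫ ξ)) U x c (pbPt f (𝟙 _) ζ₀ hζ₀)
  rw [pbPt_fiber f (𝟙 _) U x ζ₀ hζ₀] at h1
  simp only [Category.id_comp] at h1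
  refine h1.symm.trans ?_
  change (piF F).obj.map _ ((phi f F).hom.app _ (val U x c)) = 0
  refine (congrArg _ ?_).trans (map_zero _)
  rw [hc, NatTrans.naturality_apply, h]
  exact map_zero _

theorem phi_surjective {T : Over Y} (t : (piF F).obj.obj (op ((Over.pullback f).obj T))) (v : T.left) :
    ∃ (T' : Over Y) (g : T' ⟶ T) (t' : T'.left), Etale g.left ∧ g.left t' = v ∧
      ∃ s : (piF ((EtCoh.push f).obj F)).obj.obj (op T'),
        (phi f F).hom.app (op T') s = (piF F).obj.map ((Over.pullback f).map g).op t := by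
  let Ω := AlgebraicClosure (T.left.residueField v)
  let τ₀ : Spec (CommRingCat.of Ω) ⟶ T.left :=
    Spec.map (CommRingCat.ofHom (algebraMap (T.left.residueField v) Ω)) ≫
      T.left.fromSpecResidueField v
  have hτ₀ : τ₀ (default : Spec (CommRingCat.of Ω)) = v :=
    Scheme.fromSpecResidueField_apply v _
  let ξ : Spec (CommRingCat.of Ω) ⟶ Y := τ₀ ≫ T.hom
  let τ : Over.mk ξ ⟶ T := Over.homMk τ₀ rfl
  choose U x u hu using fun a : {ζ₀ : Spec (CommRingCat.of Ω) ⟶ X // ζ₀ ≫ f = ξ} =>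
    exists_val_eq ((piF F).obj.map (pbPt f τ a.1 a.2).op t)
  obtain ⟨p, hp⟩ := exists_cmpAt_eq f ξ F fun a => germ a.1 F (U a) (x a) (u a)
  obtain ⟨V, φv, c, rfl⟩ := exists_germ_eq ξ ((EtCoh.push f).obj F) p
  haveI : Etale V.hom := V.prop
  let T₁ : Over Y := Over.mk (pullback.fst T.hom V.hom ≫ T.hom)
  let g : T₁ ⟶ T := Over.homMk (pullback.fst T.hom V.hom) rfl
  let x₁ : T₁ ⟶ (EtFppf.a Y).obj V := Over.homMk (pullback.snd T.hom V.hom) pullback.condition.symm
  let τ₁ : Over.mk ξ ⟶ T₁ := Over.homMk (pullback.lift τ₀ φv.left (Over.w φv).symm) (by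
    show pullback.lift _ _ _ ≫ pullback.fst T.hom V.hom ≫ T.hom = ξ
    rw [pullback.lift_fst_assoc])
  have hτ₁g : τ₁ ≫ g = τ := Over.OverMorphism.ext (pullback.lift_fst _ _ _)
  have hτ₁x : τ₁ ≫ x₁ = φv := Over.OverMorphism.ext (pullback.lift_snd _ _ _)
  let s := (piF ((EtCoh.push f).obj F)).obj.map x₁.op
    (((BigSite.piEtAdj Scheme.etalePrecoverage Y).unit.app ((EtCoh.push f).obj F)).hom.app (op V) c)
  let φs : (piF F).obj.obj (op ((Over.pullback f).obj T₁)) := (phi f F).hom.app (op T₁) s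
  let d := φs - (piF F).obj.map ((Over.pullback f).map g).op t
  obtain ⟨T₂, g₂, t₂, hg₂, ht₂, hd⟩ := exists_zero_nbhd' f d τ₁ fun ζ₀ hζ₀ => by
    simp only [d, φs, map_sub, sub_eq_zero]
    refine (map_phi_eta f V x₁ c (pbPt f τ₁ ζ₀ hζ₀)).trans ?_
    rw [← map_comp_apply',
      show pbPt f τ₁ ζ₀ hζ₀ ≫ (Over.pullback f).map g = pbPt f τ ζ₀ hζ₀ from by
        refine Over.OverMorphism.ext (pullback.hom_ext ?_ ?_)
        · refine (Category.assoc _ _ _).trans ((congrArg (_ ≫ ·) (pullback.lift_fst _ _ _)).trans ?_)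
          refine (Category.assoc _ _ _).symm.trans ((congrArg (· ≫ g.left) (pullback.lift_fst _ _ _)).trans ?_)
          exact (congrArg CommaMorphism.left hτ₁g).trans (pullback.lift_fst _ _ _).symm
        · refine (Category.assoc _ _ _).trans ((congrArg (_ ≫ ·) (pullback.lift_snd _ _ _)).trans ?_)
          exact (pullback.lift_snd _ _ _).trans (pullback.lift_snd _ _ _).symm,
      ← hu ⟨ζ₀, hζ₀⟩]
    refine val_eq_of_germ_eq ?_
    refine Eq.trans ?_ (hp ⟨ζ₀, hζ₀⟩)
    rw [cmpAt_germ, pbPt_fiber f τ₁ V x₁ ζ₀ hζ₀]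
    exact congrArg (fun z : (Scheme.pointSmallEtale ξ).fiber.obj V =>
      germ ζ₀ F ((EtCoh.bc f).obj V) (bcPt f ζ₀ hζ₀ V z) c) hτ₁x
  refine ⟨T₂, g₂ ≫ g, t₂, ?_, ?_, (piF ((EtCoh.push f).obj F)).obj.map g₂.op s, ?_⟩
  · rw [Over.comp_left]
    exact MorphismProperty.comp_mem @Etale _ _ hg₂ (MorphismProperty.pullback_fst (P := @Etale) _ _ V.prop)
  · rw [Over.comp_left, Scheme.Hom.comp_apply, ht₂, ← Scheme.Hom.comp_apply, ← Over.comp_left, hτ₁g]
    exact hτ₀
  · rw [NatTrans.naturality_apply, Functor.map_comp, map_comp_apply']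
    exact sub_eq_zero.1 ((map_sub ((piF F).obj.map ((Over.pullback f).map g₂).op).hom _ _).symm.trans hd)

theorem isIso_phi : IsIso (phi f F) := by
  refine (Sheaf.isLocallyBijective_iff_isIso _).1 ⟨?_, ⟨fun {T} t => ?_⟩⟩
  · haveI : ∀ T, Function.Injective ((phi f F).hom.app T) := fun T => by
      rw [injective_iff_map_eq_zero]
      exact fun s hs => phi_injective f (T := T.unop) s hs
    exact Presheaf.isLocallyInjective_of_injective _ _ this
  · refine mem_of_forall_etale _ fun v => ?_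
    obtain ⟨T', g, t', he, ht, s, hs⟩ := phi_surjective f t v
    exact ⟨T', g, t', ⟨s, hs⟩, he, ht⟩

end Groth.Agent.EtFppfCmp
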