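import Groth.Agent.EtFppfCmp.Pf
import Groth.Agent.EtFppfCmp.BaseChange
import Groth.Agent.EtaleSite.PushFiber

/-!
# Sections of `π⁻¹F` on finite schemes near the fibre over a geometric point
-/

set_option autoImplicit false
set_option linter.style.haveILetI false
set_option backward.isDefEq.respectTransparency.types false

universe u

open CategoryTheory CategoryTheory.Limits AlgebraicGeometry Opposite

noncomputable section

namespace Groth.Agent.EtFppfCmp

open Groth.Agent.EtaleSite Groth.Agent.BigBC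

variable {S : Scheme.{u}} (F : EtCoh.Ab S)

/-- `π⁻¹F` on the big étale site. -/
abbrev piF : BigSite.Ab Scheme.etalePrecoverage S :=
  (BigSite.piEtPull Scheme.etalePrecoverage S).obj F

variable {F} {Z T : Over S} {Ω : Type u} [Field Ω] [IsAlgClosed Ω]
  {ξ : Spec (CommRingCat.of Ω) ⟶ S} (τ : Over.mk ξ ⟶ T) (h : Z ⟶ T)

/-- A section vanishing on the fibre over a geometric point vanishes near it. -/
theorem exists_zero_nbhd (hh : IsFinite h.left) (s : (piF F).obj.obj (op Z))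
    (hs : ∀ ζ : Over.mk ξ ⟶ Z, ζ ≫ h = τ → (piF F).obj.map ζ.op s = 0) :
    ∃ (T' : Over S) (g : T' ⟶ T) (t' : T'.left), Etale g.left ∧
      g.left t' = τ.left (default : Spec (CommRingCat.of Ω)) ∧
      (piF F).obj.map (bcSnd g h).op s = 0 := by
  haveI := hh
  let y : T.left := τ.left (default : Spec (CommRingCat.of Ω))
  let O : Set Z.left := {z | VanishAt (piF F) s z}
  have hfib : ∀ z : Z.left, h.left z = y → z ∈ O := fun z hz => by
    obtain ⟨ζ₀, hζ, hζz⟩ := exists_point_over h.left τ.left z hz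
    let ζ : Over.mk ξ ⟶ Z := Over.homMk ζ₀ (by
      show ζ₀ ≫ Z.hom = ξ
      rw [← Over.w h, reassoc_of% hζ]
      exact Over.w τ)
    have h1 := isRigid_piEtPull F Z s Ω ξ ζ (hs ζ (Over.OverMorphism.ext hζ))
    rw [show ζ.left (default : Spec (CommRingCat.of Ω)) = z from hζz] at h1
    exact h1
  let U : T.left.Opens := ⟨(h.left '' Oᶜ)ᶜ,
    (h.left.isClosedMap _ (isOpen_vanishAt s).isClosed_compl).isOpen_compl⟩
  have hy : y ∈ U := fun ⟨z, hz, hzy⟩ => hz (hfib z hzy)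
  let T' : Over S := Over.mk (U.ι ≫ T.hom)
  let g : T' ⟶ T := Over.homMk U.ι rfl
  refine ⟨T', g, ⟨y, hy⟩, (inferInstance : Etale U.ι), rfl, ?_⟩
  refine eq_zero_of_points (isRigid_piEtPull F) _ fun Ω' _ _ ξ' t => ?_
  rw [← map_comp_apply']
  refine map_eq_zero_of_vanishAt _ ?_
  let z : Z.left := (t ≫ bcSnd g h).left (default : Spec (CommRingCat.of Ω'))
  show z ∈ O
  by_contra hz
  have hU : h.left z ∈ U := by
    have e : (t ≫ bcSnd g h) ≫ h = (t ≫ bcHom g h) ≫ g := by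
      rw [Category.assoc, ← bc_condition, Category.assoc]
    have h2 : h.left z =
        U.ι ((t ≫ bcHom g h).left (default : Spec (CommRingCat.of Ω'))) :=
      congrArg (fun q : Over.mk ξ' ⟶ T => q.left (default : Spec (CommRingCat.of Ω'))) e
    rw [h2]
    exact ((t ≫ bcHom g h).left (default : Spec (CommRingCat.of Ω'))).2
  exact hU ⟨z, hz, rfl⟩

set_option maxHeartbeats 1600000 in
/-- Prescribed values on the fibre over a geometric point are taken by a section near it. -/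
theorem exists_section_values (hh : IsFinite h.left)
    (q : ∀ ζ : Over.mk ξ ⟶ Z, ζ ≫ h = τ → (piF F).obj.obj (op (Over.mk ξ))) :
    ∃ (T' : Over S) (g : T' ⟶ T) (τ' : Over.mk ξ ⟶ T') (hτ : τ' ≫ g = τ), Etale g.left ∧
      ∃ e : (piF F).obj.obj (op (bcObj g h)), ∀ (ζ : Over.mk ξ ⟶ Z) (hζ : ζ ≫ h = τ),
        (piF F).obj.map (bcLift τ' ζ (hτ.trans hζ.symm)).op e = q ζ hζ := by
  haveI := hh
  let ι : Type u := {ζ : Spec (CommRingCat.of Ω) ⟶ Z.left // ζ ≫ h.left = τ.left}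
  let mk' : ι → (Over.mk ξ ⟶ Z) := fun a => Over.homMk a.1 (by
    show a.1 ≫ Z.hom = ξ
    rw [← Over.w h, reassoc_of% a.2]
    exact Over.w τ)
  have hmk : ∀ a : ι, mk' a ≫ h = τ := fun a => Over.OverMorphism.ext a.2
  have hloc : ∀ a : ι, ∃ (U : S.Etale) (x : Over.mk ξ ⟶ (EtFppf.a S).obj U) (u : F.obj.obj (op U)),
      q (mk' a) (hmk a) = (piF F).obj.map x.op
        (((BigSite.piEtAdj Scheme.etalePrecoverage S).unit.app F).hom.app (op U) u) := fun a => by
    obtain ⟨W, g, w, U, x, u, he, hw, hu⟩ := exists_localForm F (T := Over.mk ξ) (q (mk' a) (hmk a))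
      (default : Spec (CommRingCat.of Ω))
    obtain ⟨l, h₁, -⟩ := Scheme.exists_fac_of_etale_of_isSepClosed g.left (𝟙 (Spec (CommRingCat.of Ω))) w hw
    let l' : Over.mk ξ ⟶ W := Over.homMk l (by
      change l ≫ W.hom = ξ
      rw [← Over.w g, reassoc_of% h₁]
      rfl)
    refine ⟨U, l' ≫ x, u, ?_⟩
    rw [map_comp_apply', ← hu, ← map_comp_apply',
      show l' ≫ g = 𝟙 _ from Over.OverMorphism.ext h₁]
    exact (ConcreteCategory.congr_hom ((piF F).obj.map_id _) _).symm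
  choose U x u hu using hloc
  haveI : ∀ a, Etale (U a).hom := fun a => (U a).prop
  let Uz : ι → Z.left.Etale := fun a => Scheme.Etale.mk (pullback.fst Z.hom (U a).hom)
  let az : ∀ a, Over.mk ((Uz a).hom ≫ Z.hom) ⟶ (EtFppf.a S).obj (U a) := fun a =>
    Over.homMk (pullback.snd Z.hom (U a).hom) pullback.condition.symm
  let Fz : EtCoh.Ab Z.left := (BigSite.resEtAlong Scheme.etalePrecoverage Z.hom).obj (piF F)
  let tz : ∀ a, Fz.obj.obj (op (Uz a)) := fun a => (piF F).obj.map (az a).op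
    (((BigSite.piEtAdj Scheme.etalePrecoverage S).unit.app F).hom.app (op (U a)) (u a))
  let xz : ∀ a, Spec (CommRingCat.of Ω) ⟶ (Uz a).left := fun a =>
    pullback.lift a.1 (x a).left ((Over.w (mk' a)).trans (Over.w (x a)).symm)
  have hxz : ∀ a, xz a ≫ (Uz a).hom = a.1 := fun a => pullback.lift_fst _ _ _
  let G : (∐ fun a => (Uz a).left) ⟶ Z.left := Sigma.desc fun a => (Uz a).hom
  haveI : ∀ a, Etale (Uz a).hom := fun a => (Uz a).prop
  haveI : Etale G := etale_sigmaDesc _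
  have hG : ∀ a, Sigma.ι (fun a => (Uz a).left) a ≫ G = (Uz a).hom := fun a => Sigma.ι_desc _ a
  obtain ⟨V, y, hy, h₀, hh₀, hφ⟩ := split_finite h.left τ.left (𝟙 _) G
    (fun ζ hζ => xz ⟨ζ, hζ.trans (Category.id_comp _)⟩ ≫
      Sigma.ι (fun a => (Uz a).left) ⟨ζ, hζ.trans (Category.id_comp _)⟩)
    (fun ζ hζ => by rw [Category.assoc, hG, hxz])
  obtain ⟨W, hd, hc, hk⟩ := exists_pieces h₀
  choose k hk using hk
  let k' : ∀ a, piece ((EtCoh.bc h.left).obj V) (W a) ⟶ Uz a := fun a =>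
    MorphismProperty.Over.homMk (k a) (((congrArg (k a ≫ ·) (hG a)).symm).trans
      ((Category.assoc _ _ _).symm.trans ((congrArg (· ≫ G) (hk a)).trans
        ((Category.assoc _ _ _).trans (congrArg ((W a).ι ≫ ·) hh₀))))) trivial
  obtain ⟨r, hr⟩ := exists_glue_disjoint (U := (EtCoh.bc h.left).obj V) Fz W hd hc
    (fun a => Fz.obj.map (k' a).op (tz a))
  let T' : Over S := Over.mk (V.hom ≫ T.hom)
  let g : T' ⟶ T := Over.homMk V.hom rfl
  let τ' : Over.mk ξ ⟶ T' := Over.homMk y (by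
    show y ≫ V.hom ≫ T.hom = ξ
    rw [reassoc_of% hy]
    exact Over.w τ)
  let j : bcObj g h ⟶ Over.mk (((EtCoh.bc h.left).obj V).hom ≫ Z.hom) :=
    Over.homMk (𝟙 (pullback V.hom h.left)) (by
      show 𝟙 _ ≫ pullback.snd V.hom h.left ≫ Z.hom = pullback.fst V.hom h.left ≫ V.hom ≫ T.hom
      rw [Category.id_comp, pullback.condition_assoc, Over.w h])
  refine ⟨T', g, τ', Over.OverMorphism.ext hy, V.prop, (piF F).obj.map j.op r, fun ζ hζ => ?_⟩
  let a : ι := ⟨ζ.left, congrArg CommaMorphism.left hζ⟩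
  have ha : ζ = mk' a := Over.OverMorphism.ext rfl
  let ℓ : Spec (CommRingCat.of Ω) ⟶ pullback V.hom h.left :=
    pullback.lift y ζ.left (hy.trans a.2.symm)
  have hℓ : ℓ ≫ h₀ = xz a ≫ Sigma.ι (fun a => (Uz a).left) a := by
    refine Eq.trans ?_ (hφ ζ.left (a.2.trans (Category.id_comp _).symm))
    refine congrArg (· ≫ h₀) (pullback.hom_ext ?_ ?_)
    · rw [pullback.lift_fst, pullback.lift_fst, Category.id_comp]
    · rw [pullback.lift_snd, pullback.lift_snd]
  have hr' : Set.range ℓ ⊆ Set.range (W a).ι := by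
    rintro _ ⟨o, rfl⟩
    obtain ⟨b, hb⟩ := hc (ℓ o)
    rw [Scheme.Opens.range_ι]
    by_cases hab : b = a
    · exact hab ▸ hb
    · exfalso
      have h1 : h₀ (ℓ o) ∈ (Sigma.ι (fun a => (Uz a).left) a).opensRange :=
        ⟨xz a o, (congrArg (fun q => q o) hℓ).symm⟩
      have h2 : h₀ (ℓ o) ∈ (Sigma.ι (fun a => (Uz a).left) b).opensRange :=
        ⟨k b ⟨ℓ o, hb⟩, congrArg (fun q => q ⟨ℓ o, hb⟩) (hk b)⟩
      exact (disjoint_opensRange_sigmaι (fun a => (Uz a).left) b a hab).le_bot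
        (show h₀ (ℓ o) ∈ _ ⊓ _ from ⟨h2, h1⟩)
  let l := IsOpenImmersion.lift (W a).ι ℓ hr'
  have hl : l ≫ (W a).ι = ℓ := IsOpenImmersion.lift_fac _ _ _
  let pW := piece ((EtCoh.bc h.left).obj V) (W a)
  let l' : Over.mk ξ ⟶ Over.mk (pW.hom ≫ Z.hom) := Over.homMk l (by
    show l ≫ ((W a).ι ≫ ((EtCoh.bc h.left).obj V).hom) ≫ Z.hom = ξ
    refine ((congrArg (l ≫ ·) (Category.assoc _ _ _)).trans (Category.assoc _ _ _).symm).trans ?_
    refine (congrArg (· ≫ _) hl).trans ?_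
    refine (Category.assoc _ _ _).symm.trans ?_
    refine (congrArg (· ≫ Z.hom) (pullback.lift_snd _ _ _)).trans ?_
    exact Over.w ζ)
  let pj : Over.mk (pW.hom ≫ Z.hom) ⟶ Over.mk (((EtCoh.bc h.left).obj V).hom ≫ Z.hom) :=
    Over.homMk (pieceHom ((EtCoh.bc h.left).obj V) (W a)).left (by
      show _ ≫ ((EtCoh.bc h.left).obj V).hom ≫ Z.hom = pW.hom ≫ Z.hom
      rw [← Category.assoc, MorphismProperty.Over.w])
  have e1 : bcLift τ' ζ ((Over.OverMorphism.ext hy).trans hζ.symm) ≫ j = l' ≫ pj :=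
    Over.OverMorphism.ext ((Category.comp_id _).trans hl.symm)
  rw [← map_comp_apply', e1, map_comp_apply']
  refine (congrArg ((piF F).obj.map l'.op) (hr a)).trans ?_
  let kz : Over.mk (pW.hom ≫ Z.hom) ⟶ Over.mk ((Uz a).hom ≫ Z.hom) :=
    Over.homMk (k' a).left (by
      show _ ≫ (Uz a).hom ≫ Z.hom = pW.hom ≫ Z.hom
      rw [← Category.assoc, MorphismProperty.Over.w])
  show (piF F).obj.map l'.op ((piF F).obj.map kz.op ((piF F).obj.map (az a).op _)) = _
  rw [← map_comp_apply', ← map_comp_apply']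
  have hq : ∀ (ζ₁ : Over.mk ξ ⟶ Z) (h₁ : ζ₁ ≫ h = τ) (ζ₂ : Over.mk ξ ⟶ Z) (h₂ : ζ₂ ≫ h = τ),
      ζ₁ = ζ₂ → q ζ₁ h₁ = q ζ₂ h₂ := fun ζ₁ h₁ ζ₂ h₂ e => by subst e; rfl
  rw [hq ζ hζ (mk' a) (hmk a) ha, hu]
  refine congrArg (fun r : Over.mk ξ ⟶ (EtFppf.a S).obj (U a) =>
    (piF F).obj.map r.op _) (Over.OverMorphism.ext ?_)
  show (l ≫ k a) ≫ pullback.snd Z.hom (U a).hom = (x a).left
  have hlk : l ≫ k a = xz a := by
    refine (cancel_mono (Sigma.ι (fun a => (Uz a).left) a)).1 ?_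
    rw [Category.assoc, hk, ← Category.assoc, hl, hℓ]
  rw [hlk]
  exact pullback.lift_snd _ _ _

end Groth.Agent.EtFppfCmp
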