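import Groth.Agent.EtFppfCmp.PhiIso
import Groth.Agent.EtConsAb.ProperFibre

/-!
# `a⁻¹` commutes with direct images along proper morphisms
-/

set_option autoImplicit false
set_option linter.style.haveILetI false
set_option backward.isDefEq.respectTransparency.types false

universe u

open CategoryTheory CategoryTheory.Limits AlgebraicGeometry Opposite

noncomputable section

namespace Groth.Agent.EtFppfCmp

open Groth.Agent Groth.Agent.EtaleSite Groth.Agent.BigBC
open Groth.Agent.EtConsAb.ProperFibre (eq_zero_of_cmpAt_proper)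
open Groth.Agent.EtLimit (FHom)

section Glue

variable {X P : Scheme.{u}} (pr : P ⟶ X) {F : EtCoh.Ab X}

/-- A geometric point of `P` over `X`. -/
def ovPt {Ω : Type u} [Field Ω] (ζ : Spec (CommRingCat.of Ω) ⟶ P) : Over.mk (ζ ≫ pr) ⟶ Over.mk pr :=
  Over.homMk ζ rfl

/-- Equal values at a geometric point give equal germs. -/
theorem germ_eq_of_val_eq {Ω : Type u} [Field Ω] [IsSepClosed Ω] {ξ : Spec (CommRingCat.of Ω) ⟶ X}
    {U U' : X.Etale} {x : (Scheme.pointSmallEtale ξ).fiber.obj U}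
    {x' : (Scheme.pointSmallEtale ξ).fiber.obj U'} {u : F.obj.obj (op U)} {u' : F.obj.obj (op U')}
    (h : val U x u = val U' x' u') : germ ξ F U x u = germ ξ F U' x' u' := by
  let E : (Scheme.pointSmallEtale ξ).fiber.Elements := ⟨U, x⟩
  let E' : (Scheme.pointSmallEtale ξ).fiber.Elements := ⟨U', x'⟩
  let M := IsCofiltered.min E E'
  let a : M ⟶ E := IsCofiltered.minToLeft _ _
  let b : M ⟶ E' := IsCofiltered.minToRight _ _
  have ha : (Scheme.pointSmallEtale ξ).fiber.map a.1 M.2 = x := a.2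
  have hb : (Scheme.pointSmallEtale ξ).fiber.map b.1 M.2 = x' := b.2
  have h1 : val M.1 M.2 (F.obj.map a.1.op u - F.obj.map b.1.op u') = 0 := by
    have hsub : ∀ p q : F.obj.obj (op M.1), val M.1 M.2 (p - q) = val M.1 M.2 p - val M.1 M.2 q :=
      fun p q => (congrArg _ (map_sub _ p q)).trans (map_sub _ _ _)
    rw [hsub, val_res, val_res, ha, hb, h, sub_self]
  have h2 := germ_eq_zero_of_val M.1 M.2 _ h1
  rw [map_sub, sub_eq_zero, germ_res, germ_res, ha, hb] at h2
  exact h2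

variable {pr}

/-- A chart of a section at a point, as a section of a stage. -/
theorem exists_chart (s : (piF F).obj.obj (op (Over.mk pr))) (p : P) :
    ∃ (W : P.Etale) (w : W.left) (U : X.Etale) (x : W.left ⟶ U.left)
      (hx : x ≫ U.hom = W.hom ≫ pr) (u : F.obj.obj (op U)), W.hom w = p ∧
      ∀ (Ω : Type u) [Field Ω] [IsSepClosed Ω] (ζ : Spec (CommRingCat.of Ω) ⟶ P)
        (ψ : (Scheme.pointSmallEtale ζ).fiber.obj W),
        val U (EtConsAb.PullVal.ptComp pr ζ rfl x hx ψ) u = (piF F).obj.map (ovPt pr ζ).op s := by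
  obtain ⟨W, g, w, U, x, u, he, hw, hu⟩ := exists_localForm F (T := Over.mk pr) s p
  haveI := he
  have hxw : x.left ≫ U.hom = g.left ≫ pr := (Over.w x).trans (Over.w g).symm
  refine ⟨Scheme.Etale.mk g.left, w, U, x.left, hxw, u, hw, fun Ω _ _ ζ ψ => ?_⟩
  have hψ : ψ.left ≫ g.left = ζ := Over.w ψ
  let l : Over.mk (ζ ≫ pr) ⟶ W := Over.homMk ψ.left (by
    show ψ.left ≫ W.hom = ζ ≫ pr
    exact (congrArg (ψ.left ≫ ·) (Over.w g).symm).trans
      ((Category.assoc _ _ _).symm.trans (congrArg (· ≫ pr) hψ)))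
  have e1 : (piF F).obj.map (ovPt pr ζ).op s = (piF F).obj.map (l ≫ x).op
      (((BigSite.piEtAdj Scheme.etalePrecoverage X).unit.app F).hom.app (op U) u) := by
    rw [show ovPt pr ζ = l ≫ g from Over.OverMorphism.ext hψ.symm, map_comp_apply', map_comp_apply', hu]
  refine Eq.trans ?_ e1.symm
  unfold val
  refine congrArg (fun q : Over.mk (ζ ≫ pr) ⟶ (EtFppf.a X).obj U => (piF F).obj.map q.op _) ?_
  exact Over.OverMorphism.ext rfl

/-- A section over `P → X` of the inverse image to the big site gives a section of the small inverse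
image with the same values at geometric points. -/
theorem exists_fibre_sect (s : (piF F).obj.obj (op (Over.mk pr))) :
    ∃ x : ((EtCoh.pull pr).obj F).obj.obj (op (EtCoh.top P)),
      ∀ (Ω : Type u) [Field Ω] [IsSepClosed Ω] (ζ : Spec (CommRingCat.of Ω) ⟶ P),
        ∃ (U : X.Etale) (a : (Scheme.pointSmallEtale (ζ ≫ pr)).fiber.obj U) (u : F.obj.obj (op U)),
          val U a u = (piF F).obj.map (ovPt pr ζ).op s ∧
          EtConsAb.PullVal.val pr F ζ rfl x = germ (ζ ≫ pr) F U a u := by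
  choose Wt w U x hxw u hw hval using fun v : P => exists_chart s v
  let toTop : ∀ v, Wt v ⟶ EtCoh.top P := fun v => (EtCore.topIsTerminal P).from _
  let σ : ∀ v, ((EtCoh.pull pr).obj F).obj.obj (op (Wt v)) := fun v =>
    (FHom.unit pr F).app (Wt v) (U v) (x v) (hxw v) (u v)
  have hgerm : ∀ (v : P) {Ω : Type u} [Field Ω] [IsSepClosed Ω] (ζ : Spec (CommRingCat.of Ω) ⟶ P)
      (ψ : (Scheme.pointSmallEtale ζ).fiber.obj (Wt v)),
      EtConsAb.PullVal.pullSt pr F ζ rfl (germ ζ _ (Wt v) ψ (σ v)) =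
        germ (ζ ≫ pr) F (U v) (EtConsAb.PullVal.ptComp pr ζ rfl (x v) (hxw v) ψ) (u v) :=
    fun v Ω _ _ ζ ψ => EtConsAb.PullVal.pullSt_germ_unit pr F ζ rfl (x v) (hxw v) ψ (u v)
  have hcov : Sieve.ofArrows Wt toTop ∈ P.smallEtaleTopology (EtCoh.top P) :=
    mem_topology_of_forall_exists _ fun p => ⟨Wt p, toTop p, w p, Sieve.ofArrows_mk _ _ p, by
      refine Eq.trans ?_ (hw p)
      have e : (toTop p).left = (Wt p).hom :=
        (Category.comp_id _).symm.trans (MorphismProperty.Over.w (toTop p))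
      exact congrArg (fun r : (Wt p).left ⟶ P => r (w p)) e⟩
  have hsh := ((isSheaf_iff_isSheaf_of_type _ _).1
    ((Presheaf.isSheaf_iff_isSheaf_forget _ ((EtCoh.pull pr).obj F).obj
      (forget AddCommGrpCat.{u + 1})).1 ((EtCoh.pull pr).obj F).property)) _ hcov
  rw [Sieve.ofArrows, ← Presieve.isSheafFor_iff_generate, Presieve.isSheafFor_arrows_iff] at hsh
  obtain ⟨X₀, hX₀, -⟩ := hsh σ fun v v' Z a b _ => by
    show ((EtCoh.pull pr).obj F).obj.map a.op (σ v) = ((EtCoh.pull pr).obj F).obj.map b.op (σ v')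
    refine sect_ext _ _ fun Ω _ _ ζ z => ?_
    rw [germ_res, germ_res]
    refine EtConsAb.PullVal.pullSt_injective pr F ζ rfl ?_
    rw [hgerm, hgerm]
    exact germ_eq_of_val_eq ((hval v Ω ζ _).trans (hval v' Ω ζ _).symm)
  refine ⟨X₀, fun Ω _ _ ζ => ?_⟩
  let p : P := ζ (default : Spec (CommRingCat.of Ω))
  haveI : Etale (Wt p).hom := (Wt p).prop
  obtain ⟨l, hl, -⟩ := Scheme.exists_fac_of_etale_of_isSepClosed (Wt p).hom ζ (w p) (hw p)
  let ψ : (Scheme.pointSmallEtale ζ).fiber.obj (Wt p) :=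
    (Over.homMk l hl : Over.mk ζ ⟶ (Scheme.Etale.forget P).obj (Wt p))
  refine ⟨U p, _, u p, hval p Ω ζ ψ, ?_⟩
  rw [← hgerm p ζ ψ, EtConsAb.PullVal.val_eq]
  refine congrArg (EtConsAb.PullVal.pullSt pr F ζ rfl) ?_
  rw [← EtConsAb.PullVal.eq_topPt ζ ((Scheme.pointSmallEtale ζ).fiber.map (toTop p) ψ), ← germ_res]
  exact congrArg _ (hX₀ p)

end Glue

variable {X Y : Scheme.{u}} (f : X ⟶ Y) [IsProper f] {F : EtCoh.Ab X}

/-- The comparison on a section coming from the small étale site, at a point. -/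
theorem map_phi_eta_proper {T : Over Y} (U : Y.Etale) (x : T ⟶ (EtFppf.a Y).obj U)
    (c : ((EtCoh.push f).obj F).obj.obj (op U)) {Ω : Type u} [Field Ω] [IsSepClosed Ω]
    {ζ₀ : Spec (CommRingCat.of Ω) ⟶ X} (ζ : Over.mk ζ₀ ⟶ (Over.pullback f).obj T) :
    (piF F).obj.map ζ.op ((phi f F).hom.app (op T)
        ((piF ((EtCoh.push f).obj F)).obj.map x.op
          (((BigSite.piEtAdj Scheme.etalePrecoverage Y).unit.app ((EtCoh.push f).obj F)).hom.app
            (op U) c))) =
      val ((EtCoh.bc f).obj U)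
        (show Over.mk ζ₀ ⟶ (EtFppf.a X).obj ((EtCoh.bc f).obj U) from
          ζ ≫ (Over.pullback f).map x ≫ (aPullbackIso f).hom.app U) c := by
  rw [NatTrans.naturality_apply, phi_eta]
  show (piF F).obj.map ζ.op ((piF F).obj.map ((Over.pullback f).map x).op _) = _
  rw [← map_comp_apply', ← map_comp_apply', Category.assoc]
  rfl

theorem pbPt_fiber_proper {T : Over Y} {Ω : Type u} [Field Ω] [IsSepClosed Ω]
    {ξ : Spec (CommRingCat.of Ω) ⟶ Y} (τ : Over.mk ξ ⟶ T) (U : Y.Etale)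
    (x : T ⟶ (EtFppf.a Y).obj U) (ζ₀ : Spec (CommRingCat.of Ω) ⟶ X) (h : ζ₀ ≫ f = ξ) :
    pbPt f τ ζ₀ h ≫ (Over.pullback f).map x ≫ (aPullbackIso f).hom.app U =
      (show Over.mk ζ₀ ⟶ (EtFppf.a X).obj ((EtCoh.bc f).obj U) from
        bcPt f ζ₀ h U (show (Scheme.pointSmallEtale ξ).fiber.obj U from τ ≫ x)) := by
  refine Over.OverMorphism.ext (pullback.hom_ext ?_ ?_)
  · refine Eq.trans ?_ (pullback.lift_fst _ _ _).symm
    show (pullback.lift τ.left ζ₀ _ ≫ ((Over.pullback f).map x).left ≫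
      ((aPullbackIso f).hom.app U).left) ≫ pullback.fst U.hom f = _
    simp only [Category.assoc]
    rw [aPullbackIso_hom_fst]
    show pullback.lift τ.left ζ₀ _ ≫ pullback.lift _ _ _ ≫ pullback.fst _ _ = τ.left ≫ x.left
    rw [pullback.lift_fst, pullback.lift_fst_assoc]
  · refine Eq.trans ?_ (pullback.lift_snd _ _ _).symm
    exact Over.w (pbPt f τ ζ₀ h ≫ (Over.pullback f).map x ≫ (aPullbackIso f).hom.app U)

/-- A section vanishing on the fibre of a proper morphism vanishes near it. -/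
theorem exists_zero_nbhd_proper {T : Over Y} (s : (piF F).obj.obj (op ((Over.pullback f).obj T)))
    {Ω : Type u} [Field Ω] [IsAlgClosed Ω] {ξ : Spec (CommRingCat.of Ω) ⟶ Y} (τ : Over.mk ξ ⟶ T)
    (hs : ∀ (ζ₀ : Spec (CommRingCat.of Ω) ⟶ X) (h : ζ₀ ≫ f = ξ),
      (piF F).obj.map (pbPt f τ ζ₀ h).op s = 0) :
    ∃ (T' : Over Y) (g : T' ⟶ T) (t' : T'.left), Etale g.left ∧
      g.left t' = τ.left (default : Spec (CommRingCat.of Ω)) ∧
      (piF F).obj.map ((Over.pullback f).map g).op s = 0 := by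
  let h : pullback T.hom f ⟶ T.left := pullback.fst T.hom f
  let y : T.left := τ.left (default : Spec (CommRingCat.of Ω))
  let P : Over X := (Over.pullback f).obj T
  let O : Set P.left := {z | VanishAt (piF F) s z}
  haveI : LocallyOfFiniteType (pullback.snd f ξ) := MorphismProperty.pullback_snd _ _ inferInstance
  haveI : JacobsonSpace ↥(pullback f ξ) := LocallyOfFiniteType.jacobsonSpace (pullback.snd f ξ)
  let m : pullback f ξ ⟶ P.left := pullback.lift (pullback.snd f ξ ≫ τ.left) (pullback.fst f ξ) (by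
    rw [Category.assoc, Over.w τ, pullback.condition]
    rfl)
  have hall : ∀ r, m r ∈ O := by
    by_contra hne
    obtain ⟨r₀, hr₀⟩ := not_forall.1 hne
    obtain ⟨r, hr, hrc⟩ := nonempty_inter_closedPoints (Z := (m ⁻¹' O)ᶜ) ⟨r₀, hr₀⟩
      (((isOpen_vanishAt s).preimage m.continuous).isClosed_compl.isLocallyClosed)
    let ζ : Spec (CommRingCat.of Ω) ⟶ pullback f ξ := pointOfClosedPoint (pullback.snd f ξ) r hrc
    have hζ : ζ ≫ pullback.snd f ξ = 𝟙 _ := pointOfClosedPoint_comp _ _ _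
    have hζr : ζ (default : Spec (CommRingCat.of Ω)) = r := pointOfClosedPoint_apply _ _ _ _
    have h2 : (ζ ≫ pullback.fst f ξ) ≫ f = ξ := by
      rw [Category.assoc, pullback.condition, ← Category.assoc, hζ, Category.id_comp]
    have h1 := isRigid_piEtPull F P s Ω _ (pbPt f τ _ h2) (hs _ h2)
    have h3 : (pbPt f τ _ h2).left = ζ ≫ m := by
      refine pullback.hom_ext ((pullback.lift_fst _ _ _).trans ?_) ((pullback.lift_snd _ _ _).trans ?_)
      · exact ((Category.assoc _ _ _).trans ((congrArg (ζ ≫ ·) (pullback.lift_fst _ _ _)).trans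
          ((Category.assoc _ _ _).symm.trans ((congrArg (· ≫ τ.left) hζ).trans (Category.id_comp _))))).symm
      · exact ((Category.assoc _ _ _).trans (congrArg (ζ ≫ ·) (pullback.lift_snd _ _ _))).symm
    rw [h3, Scheme.Hom.comp_apply, hζr] at h1
    exact hr h1
  have hfib : ∀ z : P.left, h z = y → z ∈ O := fun z hz => by
    obtain ⟨r, hr, -⟩ := Scheme.Pullback.exists_preimage_pullback (f := h) (g := τ.left) z
      (default : Spec (CommRingCat.of Ω)) hz
    let l : pullback h τ.left ⟶ pullback f ξ :=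
      pullback.lift (pullback.fst h τ.left ≫ pullback.snd T.hom f) (pullback.snd h τ.left) (by
        rw [Category.assoc, ← pullback.condition, ← Category.assoc, pullback.condition, Category.assoc]
        exact congrArg (pullback.snd h τ.left ≫ ·) (Over.w τ))
    have hl : l ≫ m = pullback.fst h τ.left := by
      refine pullback.hom_ext ?_ ?_
      · rw [Category.assoc, pullback.lift_fst, ← Category.assoc, pullback.lift_snd]
        exact pullback.condition.symm
      · rw [Category.assoc, pullback.lift_snd, pullback.lift_fst]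
    rw [← hr, ← hl, Scheme.Hom.comp_apply]
    exact hall _
  let U : T.left.Opens := ⟨(h '' Oᶜ)ᶜ,
    (h.isClosedMap _ (isOpen_vanishAt s).isClosed_compl).isOpen_compl⟩
  have hy : y ∈ U := fun ⟨z, hz, hzy⟩ => hz (hfib z hzy)
  let T' : Over Y := Over.mk (U.ι ≫ T.hom)
  let g : T' ⟶ T := Over.homMk U.ι rfl
  refine ⟨T', g, ⟨y, hy⟩, (inferInstance : Etale U.ι), rfl, ?_⟩
  refine eq_zero_of_points (isRigid_piEtPull F) _ fun Ω' _ _ ξ' t => ?_
  rw [← map_comp_apply']
  refine map_eq_zero_of_vanishAt _ ?_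
  let z : P.left := (t ≫ (Over.pullback f).map g).left (default : Spec (CommRingCat.of Ω'))
  show z ∈ O
  by_contra hz
  have hU : h z ∈ U := by
    have h2 : h z = U.ι ((t.left ≫ pullback.fst T'.hom f) (default : Spec (CommRingCat.of Ω'))) := by
      show ((t ≫ (Over.pullback f).map g).left ≫ pullback.fst T.hom f) _ = _
      rw [show (t ≫ (Over.pullback f).map g).left ≫ pullback.fst T.hom f =
        (t.left ≫ pullback.fst T'.hom f) ≫ U.ι from by
          rw [Over.comp_left, Category.assoc, Category.assoc]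
          exact congrArg (t.left ≫ ·) (pullback.lift_fst _ _ _)]
      rfl
    rw [h2]
    exact ((t.left ≫ pullback.fst T'.hom f) (default : Spec (CommRingCat.of Ω'))).2
  exact hU ⟨z, hz, rfl⟩

theorem phi_injective_proper {T : Over Y} (s : (piF ((EtCoh.push f).obj F)).obj.obj (op T))
    (h : (phi f F).hom.app (op T) s = 0) : s = 0 := by
  refine eq_zero_of_points (isRigid_piEtPull ((EtCoh.push f).obj F)) _ fun Ω _ _ ξ τ => ?_
  let L := AlgebraicClosure Ω
  let σ : Spec (CommRingCat.of L) ⟶ Spec (CommRingCat.of Ω) :=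
    Spec.map (CommRingCat.ofHom (algebraMap Ω L))
  let τL : Over.mk (σ ≫ ξ) ⟶ T := Over.homMk (σ ≫ τ.left) (by
    show (σ ≫ τ.left) ≫ T.hom = σ ≫ ξ
    rw [Category.assoc, Over.w τ]
    rfl)
  suffices hL : (piF ((EtCoh.push f).obj F)).obj.map τL.op s = 0 by
    have hv := isRigid_piEtPull ((EtCoh.push f).obj F) T s L _ τL hL
    rw [show τL.left (default : Spec (CommRingCat.of L)) = τ.left (default : Spec (CommRingCat.of Ω)) from
      congrArg τ.left (Subsingleton.elim (α := Spec (CommRingCat.of Ω)) _ _)] at hv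
    exact map_eq_zero_of_vanishAt τ hv
  obtain ⟨U, x, c, hc⟩ := exists_val_eq ((piF ((EtCoh.push f).obj F)).obj.map τL.op s)
  rw [← hc]
  refine (val_eq_of_germ_eq (u' := 0) ?_).trans (val_zero U x)
  rw [map_zero]
  refine eq_zero_of_cmpAt_proper f (σ ≫ ξ) F _ fun ζ₀ hζ₀ => ?_
  rw [cmpAt_germ]
  refine germ_eq_zero_of_val _ _ _ ?_
  have h1 := map_phi_eta_proper f (T := Over.mk (σ ≫ ξ)) U x c (pbPt f (𝟙 _) ζ₀ hζ₀)
  rw [pbPt_fiber_proper f (𝟙 _) U x ζ₀ hζ₀] at h1
  simp only [Category.id_comp] at h1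
  refine h1.symm.trans ?_
  change (piF F).obj.map _ ((phi f F).hom.app _ (val U x c)) = 0
  refine (congrArg _ ?_).trans (map_zero _)
  rw [hc, NatTrans.naturality_apply, h]
  exact map_zero _

theorem phi_surjective_proper {T : Over Y} (t : (piF F).obj.obj (op ((Over.pullback f).obj T))) (v : T.left) :
    ∃ (T' : Over Y) (g : T' ⟶ T) (t' : T'.left), Etale g.left ∧ g.left t' = v ∧
      ∃ s : (piF ((EtCoh.push f).obj F)).obj.obj (op T'),
        (phi f F).hom.app (op T') s = (piF F).obj.map ((Over.pullback f).map g).op t := by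
  let Ω := AlgebraicClosure (T.left.residueField v)
  let τ₀ : Spec (CommRingCat.of Ω) ⟶ T.left :=
    Spec.map (CommRingCat.ofHom (algebraMap (T.left.residueField v) Ω)) ≫
      T.left.fromSpecResidueField v
  have hτ₀ : τ₀ (default : Spec (CommRingCat.of Ω)) = v :=
    Scheme.fromSpecResidueField_apply v _
  let ξ : Spec (CommRingCat.of Ω) ⟶ Y := τ₀ ≫ T.hom
  let τ : Over.mk ξ ⟶ T := Over.homMk τ₀ rfl
  let pr := pullback.fst f ξ
  let mP : Over.mk pr ⟶ (Over.pullback f).obj T :=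
    Over.homMk (pullback.lift (pullback.snd f ξ ≫ τ₀) pr (by
      rw [Category.assoc, pullback.condition]))
      (pullback.lift_snd _ _ _)
  obtain ⟨xF, hxF⟩ := exists_fibre_sect (F := F) ((piF F).obj.map mP.op t)
  obtain ⟨V, φv, c, hc⟩ := EtConsAb.ProperFibre.exists_rep f ξ F xF
  haveI : Etale V.hom := V.prop
  let T₁ : Over Y := Over.mk (pullback.fst T.hom V.hom ≫ T.hom)
  let g : T₁ ⟶ T := Over.homMk (pullback.fst T.hom V.hom) rfl
  let x₁ : T₁ ⟶ (EtFppf.a Y).obj V := Over.homMk (pullback.snd T.hom V.hom) pullback.condition.symm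
  let τ₁ : Over.mk ξ ⟶ T₁ := Over.homMk (pullback.lift τ₀ φv.left (Over.w φv).symm) (by
    show pullback.lift _ _ _ ≫ pullback.fst T.hom V.hom ≫ T.hom = ξ
    rw [pullback.lift_fst_assoc])
  have hτ₁g : τ₁ ≫ g = τ := Over.OverMorphism.ext (pullback.lift_fst _ _ _)
  have hτ₁x : τ₁ ≫ x₁ = φv := Over.OverMorphism.ext (pullback.lift_snd _ _ _)
  let s := (piF ((EtCoh.push f).obj F)).obj.map x₁.op
    (((BigSite.piEtAdj Scheme.etalePrecoverage Y).unit.app ((EtCoh.push f).obj F)).hom.app (op V) c)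
  let φs : (piF F).obj.obj (op ((Over.pullback f).obj T₁)) := (phi f F).hom.app (op T₁) s
  let d := φs - (piF F).obj.map ((Over.pullback f).map g).op t
  obtain ⟨T₂, g₂, t₂, hg₂, ht₂, hd⟩ := exists_zero_nbhd_proper f d τ₁ fun ζ₀ hζ₀ => by
    simp only [d, φs, map_sub, sub_eq_zero]
    refine (map_phi_eta_proper f V x₁ c (pbPt f τ₁ ζ₀ hζ₀)).trans ?_
    rw [← map_comp_apply',
      show pbPt f τ₁ ζ₀ hζ₀ ≫ (Over.pullback f).map g = pbPt f τ ζ₀ hζ₀ from by
        refine Over.OverMorphism.ext (pullback.hom_ext ?_ ?_)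
        · refine (Category.assoc _ _ _).trans ((congrArg (_ ≫ ·) (pullback.lift_fst _ _ _)).trans ?_)
          refine (Category.assoc _ _ _).symm.trans ((congrArg (· ≫ g.left) (pullback.lift_fst _ _ _)).trans ?_)
          exact (congrArg CommaMorphism.left hτ₁g).trans (pullback.lift_fst _ _ _).symm
        · refine (Category.assoc _ _ _).trans ((congrArg (_ ≫ ·) (pullback.lift_snd _ _ _)).trans ?_)
          exact (pullback.lift_snd _ _ _).trans (pullback.lift_snd _ _ _).symm,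
      ]
    obtain ⟨ζ, hζpr, hζs⟩ : ∃ ζ : Spec (CommRingCat.of Ω) ⟶ pullback f ξ,
        ζ ≫ pr = ζ₀ ∧ ζ ≫ pullback.snd f ξ = 𝟙 _ :=
      ⟨pullback.lift ζ₀ (𝟙 _) (hζ₀.trans (Category.id_comp ξ).symm), pullback.lift_fst _ _ _,
        pullback.lift_snd _ _ _⟩
    subst hζpr
    obtain ⟨U', a', u', h1, h2⟩ := hxF Ω ζ
    have h3 : pbPt f τ (ζ ≫ pr) hζ₀ = ovPt pr ζ ≫ mP := by
      refine Over.OverMorphism.ext (pullback.hom_ext ?_ ?_)
      · refine (pullback.lift_fst _ _ _).trans ?_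
        show τ₀ = (ζ ≫ pullback.lift (pullback.snd f ξ ≫ τ₀) pr _) ≫ pullback.fst T.hom f
        rw [Category.assoc, pullback.lift_fst, ← Category.assoc, hζs, Category.id_comp]
      · refine (pullback.lift_snd _ _ _).trans ?_
        show ζ ≫ pr = (ζ ≫ pullback.lift (pullback.snd f ξ ≫ τ₀) pr _) ≫ pullback.snd T.hom f
        rw [Category.assoc, pullback.lift_snd]
    rw [h3, map_comp_apply', ← h1]
    refine val_eq_of_germ_eq ?_
    rw [pbPt_fiber_proper f τ₁ V x₁ (ζ ≫ pr) hζ₀, ← h2, hc Ω ζ]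
    refine congrArg (fun z : (Scheme.pointSmallEtale (ζ ≫ pr)).fiber.obj ((EtCoh.bc f).obj V) =>
      germ (ζ ≫ pr) F ((EtCoh.bc f).obj V) z c) (Over.OverMorphism.ext (pullback.hom_ext ?_ ?_))
    · refine (pullback.lift_fst _ _ _).trans ?_
      refine (congrArg (fun r : Over.mk ξ ⟶ (EtFppf.a Y).obj V => r.left) hτ₁x).trans ?_
      refine Eq.trans ?_ (Category.assoc _ _ _).symm
      refine Eq.trans ?_ (congrArg (ζ ≫ ·) (EtConsAb.ProperFibre.toNbhd_fst f ξ φv)).symm
      exact (((Category.assoc _ _ _).symm.trans (congrArg (fun r => r ≫ φv.left) hζs)).trans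
        (Category.id_comp _)).symm
    · refine (pullback.lift_snd _ _ _).trans ?_
      exact ((Category.assoc _ _ _).trans (congrArg (ζ ≫ ·) (EtConsAb.ProperFibre.toNbhd_hom f ξ φv))).symm
  refine ⟨T₂, g₂ ≫ g, t₂, ?_, ?_, (piF ((EtCoh.push f).obj F)).obj.map g₂.op s, ?_⟩
  · rw [Over.comp_left]
    exact MorphismProperty.comp_mem @Etale _ _ hg₂ (MorphismProperty.pullback_fst (P := @Etale) _ _ V.prop)
  · rw [Over.comp_left, Scheme.Hom.comp_apply, ht₂, ← Scheme.Hom.comp_apply, ← Over.comp_left, hτ₁g]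
    exact hτ₀
  · rw [NatTrans.naturality_apply, Functor.map_comp, map_comp_apply']
    exact sub_eq_zero.1 ((map_sub ((piF F).obj.map ((Over.pullback f).map g₂).op).hom _ _).symm.trans hd)

theorem isIso_phi_proper : IsIso (phi f F) := by
  refine (Sheaf.isLocallyBijective_iff_isIso _).1 ⟨?_, ⟨fun {T} t => ?_⟩⟩
  · haveI : ∀ T, Function.Injective ((phi f F).hom.app T) := fun T => by
      rw [injective_iff_map_eq_zero]
      exact fun s hs => phi_injective_proper f (T := T.unop) s hs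
    exact Presheaf.isLocallyInjective_of_injective _ _ this
  · refine mem_of_forall_etale _ fun v => ?_
    obtain ⟨T', g, t', he, ht, s, hs⟩ := phi_surjective_proper f t v
    exact ⟨T', g, t', ⟨s, hs⟩, he, ht⟩

/-- `a⁻¹ f_* = f_* a⁻¹` for proper morphisms. -/
theorem nonempty_pushCommIso [EtFppf.ACont X] [EtFppf.ACont Y] :
    Nonempty ((EtFppf.aPull Y).obj ((EtCoh.push f).obj F) ≅
      (EtFppf.pushBig f).obj ((EtFppf.aPull X).obj F)) := by
  haveI := isIso_phi_proper f (F := F)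
  let e : ((Pf Y).obj ((EtCoh.push f).obj F)).obj ≅ ((EtFppf.pushBig f).obj ((Pf X).obj F)).obj :=
    (sheafToPresheaf _ _).mapIso (asIso (phi f F))
  exact ⟨(aPullIso Y).app _ ≪≫ (fullyFaithfulSheafToPresheaf (EtFppf.J Y) AddCommGrpCat.{u + 1}).preimageIso
    (X := (Pf Y).obj ((EtCoh.push f).obj F)) (Y := (EtFppf.pushBig f).obj ((Pf X).obj F)) e ≪≫
    (EtFppf.pushBig f).mapIso ((aPullIso X).app F).symm⟩

end Groth.Agent.EtFppfCmp
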