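import Groth.Agent.EtFppfCmp.PhiIso
import Groth.Agent.EtaleSite.PushIntegral

/-!
# `a⁻¹` commutes with higher direct images along finite morphisms
-/

set_option autoImplicit false
set_option linter.style.haveILetI false
set_option backward.isDefEq.respectTransparency.types false

universe u

open CategoryTheory CategoryTheory.Limits AlgebraicGeometry Opposite

noncomputable section

namespace Groth.Agent.EtFppfCmp

open Groth.Agent.EtaleSite

variable {X Y : Scheme.{u}} (f : X ⟶ Y) [IsFinite f] [EtFppf.ACont X] [EtFppf.ACont Y]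

/-- `a⁻¹ f_* = f_* a⁻¹` for finite morphisms. -/
def pushCommIso (F : EtCoh.Ab X) :
    (EtFppf.aPull Y).obj ((EtCoh.push f).obj F) ≅ (EtFppf.pushBig f).obj ((EtFppf.aPull X).obj F) :=
  haveI := isIso_phi f (F := F)
  let e : ((Pf Y).obj ((EtCoh.push f).obj F)).obj ≅ ((EtFppf.pushBig f).obj ((Pf X).obj F)).obj :=
    (sheafToPresheaf _ _).mapIso (asIso (phi f F))
  (aPullIso Y).app _ ≪≫ (fullyFaithfulSheafToPresheaf (EtFppf.J Y) AddCommGrpCat.{u + 1}).preimageIso
    (X := (Pf Y).obj ((EtCoh.push f).obj F)) (Y := (EtFppf.pushBig f).obj ((Pf X).obj F)) e ≪≫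
    (EtFppf.pushBig f).mapIso ((aPullIso X).app F).symm

theorem nonempty_RpushBig_iso (F : EtCoh.Ab X) (i : ℕ) :
    Nonempty ((EtFppf.aPull Y).obj ((EtCoh.Rpush f i).obj F) ≅
      (EtFppf.RpushBig f i).obj ((EtFppf.aPull X).obj F)) := by
  haveI := preservesFiniteLimits_pushBig f
  haveI : PreservesLimitsOfSize.{0, 0} (EtCoh.push f) := (EtCoh.pullPushAdj f).rightAdjoint_preservesLimits
  haveI : PreservesFiniteLimits (EtCoh.push f) := PreservesLimitsOfSize.preservesFiniteLimits _
  rcases i with _ | k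
  · exact ⟨(EtFppf.aPull Y).mapIso ((EtCoh.push f).rightDerivedZeroIsoSelf.app F) ≪≫
      pushCommIso f F ≪≫ ((EtFppf.pushBig f).rightDerivedZeroIsoSelf.app _).symm⟩
  · haveI : PreservesFiniteLimits (EtFppf.aPull Y) :=
      Groth.Agent.BigBC.preservesFiniteLimits_piEtPull Y Scheme.fppfPrecoverage
    refine ⟨IsZero.iso ?_ (isZero_RpushBig f F k)⟩
    refine Functor.map_isZero _ ?_
    exact Flasque.isZero_rightDerived_of_exact (EtCoh.push f) k F

end Groth.Agent.EtFppfCmp
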