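import Groth.Agent.EtFppfCmp.Acyclic
import Groth.Agent.EtFppfCmp.GsecDerived
import Groth.Agent.BigShriek.Basic
import Groth.Agent.SiteCoh.PushDerived

/-!
# Cohomology of the restrictions of an injective resolution on the big fppf site
-/

set_option autoImplicit false
set_option linter.style.haveILetI false
set_option backward.isDefEq.respectTransparency.types false

universe v v' u' u'' u

open CategoryTheory CategoryTheory.Limits AlgebraicGeometry Opposite

noncomputable section

namespace Groth.Agent.EtFppfCmp

open Groth.Agent.EtaleSite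

section Acyclic

variable {A : Type u'} [Category.{v} A] [Abelian A] [HasInjectiveResolutions A]
  {B : Type u''} [Category.{v'} B] [Abelian B] (R : A ⥤ B) [R.Additive] [PreservesFiniteLimits R]
  [R.PreservesInjectiveObjects]

/-- A left exact functor preserving injectives maps injective resolutions of its acyclic objects to
injective resolutions. -/
theorem exists_injRes {Z : A} (I : InjectiveResolution Z)
    (h : ∀ n : ℕ, IsZero ((R.rightDerived (n + 1)).obj Z)) :
    ∃ J : InjectiveResolution (R.obj Z),
      J.cocomplex = (R.mapHomologicalComplex (ComplexShape.up ℕ)).obj I.cocomplex := by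
  let K := (R.mapHomologicalComplex (ComplexShape.up ℕ)).obj I.cocomplex
  let ι₀ : Z ⟶ I.cocomplex.X 0 := I.ι.f 0
  have hι₀ : ι₀ ≫ I.cocomplex.d 0 1 = 0 := I.ι_f_zero_comp_complex_d
  have h0 : (ShortComplex.mk (R.map ι₀) (K.d 0 1) (by
      show R.map ι₀ ≫ R.map (I.cocomplex.d 0 1) = 0
      rw [← R.map_comp, hι₀, R.map_zero])).Exact ∧ Mono (R.map ι₀) := by
    haveI : Mono ι₀ := inferInstanceAs (Mono (I.ι.f 0))
    exact ⟨ShortComplex.Exact.map_of_mono_of_preservesKernel (S := ShortComplex.mk ι₀ (I.cocomplex.d 0 1) hι₀)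
      I.exact₀ R inferInstance inferInstance, inferInstance⟩
  refine ⟨{ cocomplex := K
            injective := fun n => R.injective_obj (I.cocomplex.X n)
            ι := (CochainComplex.fromSingle₀Equiv _ _).symm ⟨R.map ι₀, by
              show R.map ι₀ ≫ R.map (I.cocomplex.d 0 1) = 0
              rw [← R.map_comp, hι₀, R.map_zero]⟩
            quasiIso := ⟨fun n => ?_⟩ }, rfl⟩
  cases n with
  | zero =>
    rw [CochainComplex.quasiIsoAt₀_iff, ShortComplex.quasiIso_iff_of_zeros]
    · refine (ShortComplex.exact_and_mono_f_iff_of_iso ?_).2 h0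
      exact ShortComplex.isoMk (Iso.refl _) (Iso.refl _) (Iso.refl _)
        (by simp; exact (Category.id_comp _).trans (Category.comp_id _).symm)
        (by simp; exact (Category.id_comp _).trans (Category.comp_id _).symm)
    all_goals first | rfl | exact K.shape 0 0 (by simp)
  | succ n =>
    rw [quasiIsoAt_iff_exactAt _ _ (CochainComplex.exactAt_succ_single_obj _ _)]
    exact (HomologicalComplex.exactAt_iff_isZero_homology _ _).2
      ((h n).of_iso (I.isoRightDerivedObj R (n + 1)).symm)

theorem nonempty_rightDerived_comp [HasInjectiveResolutions B] {C : Type*} [Category C] [Abelian C]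
    (G : B ⥤ C) [G.Additive] {Z : A} (I : InjectiveResolution Z)
    (h : ∀ n : ℕ, IsZero ((R.rightDerived (n + 1)).obj Z)) (n : ℕ) :
    Nonempty ((((R ⋙ G).mapHomologicalComplex (ComplexShape.up ℕ)).obj I.cocomplex).homology n ≅
      (G.rightDerived n).obj (R.obj Z)) := by
  obtain ⟨J, hJ⟩ := exists_injRes R I h
  refine ⟨?_ ≪≫ (J.isoRightDerivedObj G n).symm⟩
  exact eqToIso (by rw [hJ]; rfl)

end Acyclic

variable {S : Scheme.{u}}

/-- Sections over an object of the big site. -/
abbrev sectFun (T : Over S) : EtFppf.AbF S ⥤ AddCommGrpCat.{u + 1} :=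
  (sheafSections (EtFppf.J S) AddCommGrpCat.{u + 1}).obj (op T)

instance preservesInjective_resAt (T : Over S) : (resAt T).PreservesInjectiveObjects where
  injective_obj := fun {I} hI => by
    have := Groth.Agent.BigShriek.preservesInjective_pullBig Scheme.fppfPrecoverage T.hom
    exact Groth.Agent.BigBC.injective_resEt T.left _ _

theorem preservesFiniteLimits_resAt (T : Over S) : PreservesFiniteLimits (resAt T) :=
  have : PreservesLimitsOfSize.{0, 0} (BigSite.pullBig Scheme.fppfPrecoverage T.hom AddCommGrpCat.{u + 1}) :=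
    (BigSite.shriekAbAdj Scheme.fppfPrecoverage T.hom).rightAdjoint_preservesLimits
  have : PreservesLimitsOfSize.{0, 0} (BigSite.resEt Scheme.fppfPrecoverage T.left) :=
    (BigSite.piEtAdj Scheme.fppfPrecoverage T.left).rightAdjoint_preservesLimits
  have : PreservesLimitsOfSize.{0, 0} (resAt T) := comp_preservesLimits _ _
  PreservesLimitsOfSize.preservesFiniteLimits _

/-- The identification of `T` with the top étale `T`-scheme. -/
def topIso (T : Over S) : Over.mk ((EtCoh.top T.left).hom ≫ T.hom) ≅ T :=
  Over.isoMk (Iso.refl T.left) (by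
    show 𝟙 T.left ≫ T.hom = 𝟙 T.left ≫ T.hom
    rfl)

/-- Sections over `T` are global sections of the restriction. -/
def sectResIso (T : Over S) : resAt T ⋙ EtCore.gsec T.left ≅ sectFun T :=
  NatIso.ofComponents (fun G => G.obj.mapIso (topIso T).symm.op)
    (fun {G H} φ => (φ.hom.naturality (topIso T).symm.hom.op).symm)

/-- The restriction of `π⁻¹F`. -/
def resPfIso (T : Over S) (F : EtCoh.Ab S) :
    (resAt T).obj ((Pf S).obj F) ≅ (EtCoh.pull T.hom).obj F :=
  (fullyFaithfulSheafToPresheaf T.left.smallEtaleTopology AddCommGrpCat.{u + 1}).preimageIso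
    (X := (resAt T).obj ((Pf S).obj F)) (Y := (EtCoh.pull T.hom).obj F)
    ((sheafToPresheaf _ _).mapIso ((Groth.Agent.BigBC.resAlongPiIso T.hom).app F))

theorem isZero_R_resAt (T : Over S) {G : EtFppf.AbF S} (hG : Acyc G) (n : ℕ) :
    IsZero (((resAt T).rightDerived (n + 1)).obj G) := by
  haveI := preservesFiniteLimits_resAt T
  exact isZero_rightDerived_of_acyc (resAt T) (fun π hπ => hπ.epi T) n G hG

/-- The sections over `T` of a resolution of `π⁻¹F` compute the cohomology of `F|_T`. -/
theorem nonempty_sections_homology_iso (T : Over S) (F : EtCoh.Ab S)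
    (I : InjectiveResolution ((Pf S).obj F)) (q : ℕ) :
    Nonempty ((((sectFun T).mapHomologicalComplex (ComplexShape.up ℕ)).obj I.cocomplex).homology q ≅
      AddCommGrpCat.of (EtCoh.H T.left ((EtCoh.pull T.hom).obj F) q)) := by
  haveI := preservesFiniteLimits_resAt T
  obtain ⟨e⟩ := nonempty_rightDerived_comp (resAt T) (EtCore.gsec T.left) I
    (isZero_R_resAt T (acyc_Pf F)) q
  obtain ⟨e'⟩ := nonempty_gsec_rightDerived_iso T.left q
  refine ⟨?_ ≪≫ e ≪≫ e'.app _ ≪≫ (EtCoh.HF T.left q).mapIso (resPfIso T F)⟩
  exact (HomologicalComplex.homologyFunctor _ _ q).mapIso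
    ((NatIso.mapHomologicalComplex (sectResIso T) (ComplexShape.up ℕ)).app I.cocomplex).symm

end Groth.Agent.EtFppfCmp
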